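import Groth.Agent.GorLib.Change
import Groth.Agent.CommAlgDim.Depth
import Groth.Agent.SMTLib.CMQuot
import Mathlib.RingTheory.Ideal.MinimalPrime.Noetherian
import Mathlib.RingTheory.KrullDimension.Zero
import Mathlib.RingTheory.KrullDimension.Regular

/-! # Gorenstein local rings: dimension, depth and injective dimension -/

set_option autoImplicit false

universe u

open CategoryTheory IsLocalRing RingTheory.Sequence

namespace GorLib

/-- A self-injective noetherian local ring has dimension zero. -/
theorem krullDimLE_zero_of_injective {R : Type u} [CommRing R] [IsLocalRing R] [IsNoetherianRing R]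
    (hR : Module.Injective R R) : Ring.KrullDimLE 0 R := by
  refine Ring.KrullDimLE.mk₀ fun q hq => ?_
  obtain ⟨p, hp, hpq⟩ := Ideal.exists_minimalPrimes_le (I := (⊥ : Ideal R)) (J := q) bot_le
  rcases eq_or_ne p (maximalIdeal R) with hpm | hpm
  · have : q = maximalIdeal R := le_antisymm (le_maximalIdeal hq.ne_top) (hpm ▸ hpq)
    exact this ▸ maximalIdeal.isMaximal R
  · exfalso
    haveI := hp.1.1
    obtain ⟨x, hx, hxp⟩ := SetLike.exists_of_lt (lt_of_le_of_ne (le_maximalIdeal hp.1.1.ne_top) hpm)
    obtain ⟨-, e, he⟩ := (isAssociatedPrime_iff_exists_injective_linearMap _ _).1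
      (Module.associatedPrimes.minimalPrimes_annihilator_subset_associatedPrimes R R
        (by rw [Module.annihilator_eq_bot.2 inferInstance]; exact hp))
    let μ : (R ⧸ p) →ₗ[R] (R ⧸ p) := x • LinearMap.id
    have hμ : Function.Injective μ := by
      rw [injective_iff_map_eq_zero]
      intro a ha
      obtain ⟨a, rfl⟩ := Ideal.Quotient.mk_surjective a
      have : Ideal.Quotient.mk p (x * a) = 0 := ha
      rw [Ideal.Quotient.eq_zero_iff_mem] at this ⊢
      exact (hp.1.1.mem_or_mem this).resolve_left hxp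
    have htop : (⊤ : Submodule R ((R ⧸ p) →ₗ[R] R)) ≤ maximalIdeal R • ⊤ := fun φ _ => by
      obtain ⟨ψ, hψ⟩ := hR.out μ hμ φ
      have : φ = x • ψ := LinearMap.ext fun a => by rw [← hψ a]; exact map_smul ψ x a
      rw [this]
      exact Submodule.smul_mem_smul hx Submodule.mem_top
    have h0 := Submodule.eq_bot_of_le_smul_of_le_jacobson_bot (maximalIdeal R) ⊤ Module.Finite.fg_top htop
      (maximalIdeal_le_jacobson ⊥)
    have he0 : e = 0 := by
      have : e ∈ (⊤ : Submodule R ((R ⧸ p) →ₗ[R] R)) := Submodule.mem_top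
      rwa [h0, Submodule.mem_bot] at this
    have h1 : (1 : R ⧸ p) = 0 := he (by rw [he0]; rfl)
    exact hp.1.1.ne_top ((Ideal.eq_top_iff_one p).2 (Ideal.Quotient.eq_zero_iff_mem.1 (by rw [map_one]; exact h1)))

/-- Depth zero and finite injective dimension imply self-injectivity. -/
theorem idlt_one_of_depth_zero {R : Type u} [CommRing R] [IsLocalRing R] [IsNoetherianRing R]
    (hm : maximalIdeal R ∈ associatedPrimes R R) {n : ℕ} (h : IDLT R R n) : IDLT R R 1 := by
  obtain ⟨-, e, he⟩ := (isAssociatedPrime_iff_exists_injective_linearMap _ _).1 hm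
  have key : ∀ k K : ℕ, n ≤ K + 1 + k → ∀ (X : Type u) [AddCommGroup X] [Module R X] [Module.Finite R X] (i : ℕ),
      K + 1 ≤ i → ExtVan R X R i := by
    intro k
    induction k with
    | zero => intro K hK X _ _ _ i hi; exact @HasInjectiveDimensionLT.subsingleton _ _ _ _ _ n h i (by omega) _
    | succ k ih =>
      intro K hK
      refine extVan_of_residueField fun i hi => ?_
      rcases Nat.lt_or_ge (K + 1) i with hlt | hge
      · exact ih (K + 1) (by omega) _ i hlt
      · obtain rfl : i = K + 1 := by omega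
        have hR : ExtVan R R R (K + 1) := by
          haveI : Projective (ModuleCat.of R R) := (IsProjective.iff_projective R).1 inferInstance
          exact ⟨fun a b => (Abelian.Ext.eq_zero_of_projective a).trans (Abelian.Ext.eq_zero_of_projective b).symm⟩
        exact extVan_left e (LinearMap.range e).mkQ he (Submodule.mkQ_surjective _)
          (LinearMap.exact_map_mkQ_range e) hR (ih (K + 1) (by omega) _ (K + 2) le_rfl)
  exact ProjLib.hasInjectiveDimensionLT_of_cyclic 0 _ fun I => key n 0 (by omega) (R ⧸ I) 1 le_rfl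

/-- The structure of local rings of finite injective dimension: Cohen–Macaulay, with injective
dimension equal to the dimension. -/
theorem structure_of_idlt : ∀ (n : ℕ) (R : Type u) [CommRing R] [IsLocalRing R] [IsNoetherianRing R],
    IDLT R R (n + 1) → ∃ rs : List R, IsRegular R rs ∧ ringKrullDim R = (rs.length : ℕ) ∧
      rs.length ≤ n ∧ IDLT R R (rs.length + 1) := by
  intro n
  induction n with
  | zero =>
    intro R _ _ _ h
    haveI := krullDimLE_zero_of_injective (idlt_one_iff.1 h)
    exact ⟨[], IsRegular.nil R R, by rw [ringKrullDimZero_iff_ringKrullDim_eq_zero.1 inferInstance]; rfl, le_rfl, h⟩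
  | succ n ih =>
    intro R _ _ _ h
    by_cases hm : maximalIdeal R ∈ associatedPrimes R R
    · have h1 := idlt_one_of_depth_zero hm h
      haveI := krullDimLE_zero_of_injective (idlt_one_iff.1 h1)
      exact ⟨[], IsRegular.nil R R, by rw [ringKrullDimZero_iff_ringKrullDim_eq_zero.1 inferInstance]; rfl, Nat.zero_le _, h1⟩
    · obtain ⟨f, hfm, hf⟩ := CommAlgDim.exists_isSMulRegular_mem (M := R) (I := maximalIdeal R) fun p hp hle =>
        hm ((le_antisymm (le_maximalIdeal hp.isPrime.ne_top) hle) ▸ hp)
      haveI : Nontrivial (R ⧸ Ideal.span {f}) := Ideal.Quotient.nontrivial_iff.2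
        (ne_top_of_le_ne_top (Ideal.IsMaximal.ne_top inferInstance) ((Ideal.span_singleton_le_iff_mem _).2 hfm))
      haveI : IsLocalRing (R ⧸ Ideal.span {f}) :=
        IsLocalRing.of_surjective' (Ideal.Quotient.mk _) Ideal.Quotient.mk_surjective
      obtain ⟨rs', hrs', hdim, hlen, hid⟩ := ih (R ⧸ Ideal.span {f}) (idlt_quot_of_idlt f hf h)
      let g := Function.surjInv (Ideal.Quotient.mk_surjective (I := Ideal.span {f}))
      have hg : (rs'.map g).map (Ideal.Quotient.mk (Ideal.span {f})) = rs' := by
        rw [List.map_map]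
        conv_rhs => rw [← List.map_id rs']
        exact List.map_congr_left fun a _ => Function.surjInv_eq _ a
      refine ⟨f :: rs'.map g, CommAlgDim.isRegular_cons_ring.2 ⟨hf, by rw [hg]; exact hrs'⟩, ?_,
        by simp only [List.length_cons, List.length_map]; omega, ?_⟩
      · rw [← ringKrullDim_quotient_span_singleton_succ_eq_ringKrullDim hf hfm, hdim]
        simp
      · simpa using idlt_of_quot f hf hfm hid

theorem isCM_of_gorenstein {R : Type u} [CommRing R] [LocCoh.IsGorensteinLocalRing R] : CommAlgDim.IsCM R := by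
  obtain ⟨n, hn⟩ := LocCoh.IsGorensteinLocalRing.exists_hasInjectiveDimensionLT (A := R)
  obtain ⟨rs, hrs, hdim, -, -⟩ := structure_of_idlt n R (idlt_mono (Nat.le_succ n) hn)
  exact ⟨rs, hrs, hdim⟩

/-- `id R ≤ dim R` for a Gorenstein local ring. -/
theorem idlt_of_dim_le {R : Type u} [CommRing R] [LocCoh.IsGorensteinLocalRing R] {d : ℕ}
    (hd : ringKrullDim R ≤ d) : IDLT R R (d + 1) := by
  obtain ⟨n, hn⟩ := LocCoh.IsGorensteinLocalRing.exists_hasInjectiveDimensionLT (A := R)
  obtain ⟨rs, -, hdim, -, hid⟩ := structure_of_idlt n R (idlt_mono (Nat.le_succ n) hn)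
  rw [hdim] at hd
  have : rs.length ≤ d := by exact_mod_cast hd
  exact idlt_mono (by omega) hid

theorem dim_le_of_idlt {R : Type u} [CommRing R] [IsLocalRing R] [IsNoetherianRing R] {n : ℕ}
    (h : IDLT R R (n + 1)) : ringKrullDim R ≤ n := by
  obtain ⟨rs, -, hdim, hlen, -⟩ := structure_of_idlt n R h
  rw [hdim]
  exact_mod_cast hlen

theorem gorenstein_of_idlt {R : Type u} [CommRing R] [IsLocalRing R] [IsNoetherianRing R] {n : ℕ}
    (h : IDLT R R n) : LocCoh.IsGorensteinLocalRing R :=
  { exists_hasInjectiveDimensionLT := ⟨n, h⟩ }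

theorem gorenstein_quotient_iff {R : Type u} [CommRing R] [IsLocalRing R] [IsNoetherianRing R] {f : R}
    (hf : IsSMulRegular R f) (hfm : f ∈ maximalIdeal R) :
    LocCoh.IsGorensteinLocalRing R ↔ LocCoh.IsGorensteinLocalRing (R ⧸ Ideal.span {f}) := by
  constructor
  · intro h
    obtain ⟨n, hn⟩ := h.exists_hasInjectiveDimensionLT
    haveI : Nontrivial (R ⧸ Ideal.span {f}) := Ideal.Quotient.nontrivial_iff.2
      (ne_top_of_le_ne_top (Ideal.IsMaximal.ne_top inferInstance) ((Ideal.span_singleton_le_iff_mem _).2 hfm))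
    haveI : IsLocalRing (R ⧸ Ideal.span {f}) :=
      IsLocalRing.of_surjective' (Ideal.Quotient.mk _) Ideal.Quotient.mk_surjective
    exact gorenstein_of_idlt (idlt_quot_of_idlt f hf (idlt_mono (Nat.le_add_right n 2) hn))
  · intro h
    obtain ⟨n, hn⟩ := h.exists_hasInjectiveDimensionLT
    exact gorenstein_of_idlt (idlt_of_quot f hf hfm (idlt_mono (Nat.le_succ n) hn))

end GorLib
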