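import Groth.Agent.GorLib.RegSeq
import Groth.Agent.CommAlgDim.DepthBounds
import Groth.Agent.SMTLib.CMQuot
import Mathlib.RingTheory.Regular.Flat

/-! # Maximal Cohen–Macaulay quotients of Gorenstein local rings -/

set_option autoImplicit false

universe u

open CategoryTheory IsLocalRing RingTheory.Sequence TensorProduct CommAlgDim Pointwise

namespace GorLib

variable {A : Type u} [CommRing A]

theorem extVan_of_smul [IsNoetherianRing A] [IsLocalRing A] {M N : Type u} [AddCommGroup M] [Module A M] [Module.Finite A M]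
    [AddCommGroup N] [Module A N] [Module.Finite A N] {x : A} (hx : x ∈ maximalIdeal A) (hxr : IsSMulRegular M x)
    {i : ℕ} (h : ExtVan A (QuotSMulTop x M) N (i + 1)) : ExtVan A M N i := by
  let μ : M →ₗ[A] M := x • LinearMap.id
  have hμ : Function.Injective μ := fun a b hab => hxr hab
  let π : M →ₗ[A] QuotSMulTop x M := Submodule.mkQ _
  have hex : Function.Exact μ π := fun a => by
    show (Submodule.Quotient.mk a : QuotSMulTop x M) = 0 ↔ _
    rw [Submodule.Quotient.mk_eq_zero, Submodule.mem_smul_pointwise_iff_exists]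
    exact ⟨fun ⟨b, _, hb⟩ => ⟨b, hb⟩, fun ⟨b, hb⟩ => ⟨b, trivial, hb⟩⟩
  have hS := exists_ses μ π hμ (Submodule.mkQ_surjective _) hex
  have hsurj : ∀ c : Abelian.Ext (ModuleCat.of A M) (ModuleCat.of A N) i, ∃ y, c = x • y := fun c => by
    obtain ⟨y, hy⟩ := Abelian.Ext.contravariant_sequence_exact₁ hS (ModuleCat.of A N) c
      (n₁ := i + 1) (add_comm 1 i) (@Subsingleton.elim _ h _ _)
    refine ⟨y, hy.symm.trans ?_⟩
    show (Abelian.Ext.mk₀ (ModuleCat.ofHom (x • LinearMap.id))).comp y (zero_add i) = _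
    have e1 : ModuleCat.ofHom (x • LinearMap.id : M →ₗ[A] M) = x • 𝟙 (ModuleCat.of A M) :=
      ModuleCat.hom_ext (by ext; rfl)
    rw [e1, Abelian.Ext.mk₀_smul, Abelian.Ext.smul_comp, Abelian.Ext.mk₀_id_comp]
  haveI : Module.Finite A (ModuleCat.of A M) := ‹Module.Finite A M›
  haveI : Module.Finite A (ModuleCat.of A N) := ‹Module.Finite A N›
  have htop : (⊤ : Submodule A (Abelian.Ext (ModuleCat.of A M) (ModuleCat.of A N) i)) ≤ maximalIdeal A • ⊤ := fun c _ => by
    obtain ⟨y, rfl⟩ := hsurj c
    exact Submodule.smul_mem_smul hx Submodule.mem_top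
  have := Submodule.eq_bot_of_le_smul_of_le_jacobson_bot (maximalIdeal A) ⊤ Module.Finite.fg_top htop
    (maximalIdeal_le_jacobson ⊥)
  refine ⟨fun a b => ?_⟩
  have ha : a ∈ (⊤ : Submodule A _) := Submodule.mem_top
  have hb : b ∈ (⊤ : Submodule A _) := Submodule.mem_top
  rw [this, Submodule.mem_bot] at ha hb
  rw [ha, hb]

/-- `Ext^i(M, A) = 0` for `i > dim A - depth M` over a Gorenstein local ring. -/
theorem extVan_of_hasSeqIn [LocCoh.IsGorensteinLocalRing A] {d : ℕ} (hd : ringKrullDim A ≤ d) :
    ∀ (t : ℕ) (M : Type u) [AddCommGroup M] [Module A M] [Module.Finite A M],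
      HasSeqIn (maximalIdeal A) M t → ∀ i, d + 1 ≤ i + t → ExtVan A M A i := by
  intro t
  induction t with
  | zero =>
    intro M _ _ _ _ i hi
    exact @HasInjectiveDimensionLT.subsingleton _ _ _ _ _ (d + 1) (idlt_of_dim_le hd) i (by omega) _
  | succ t ih =>
    intro M _ _ _ h i hi
    obtain ⟨x, hx, hxr⟩ := exists_isSMulRegular_mem ((hasSeqIn_one_iff _).1 (h.mono (Nat.le_add_left 1 t)))
    exact extVan_of_smul hx hxr (ih (QuotSMulTop x M) (h.quotSMulTop hx hxr) (i + 1) (by omega))

section Local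

variable [IsLocalRing A] [IsNoetherianRing A]

/-- A regular element is regular on a maximal Cohen–Macaulay quotient. -/
theorem isSMulRegular_of_mcm {d : ℕ} (hd : ringKrullDim A = d) {M : Type u} [AddCommGroup M] [Module A M]
    [Module.Finite A M] (hM : HasSeqIn (maximalIdeal A) M d) {x : A} (hxm : x ∈ maximalIdeal A)
    (hx : IsSMulRegular A x) : IsSMulRegular M x := by
  by_contra hcon
  have h1 : x ∈ ({r : A | IsSMulRegular M r})ᶜ := hcon
  rw [← biUnion_associatedPrimes_eq_compl_regular A M, Set.mem_iUnion₂] at h1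
  obtain ⟨P, hP, hxP⟩ := h1
  have h2 := depth_le_ringKrullDim_quotient hP hM
  have hnz : x ∈ nonZeroDivisors A := mem_nonZeroDivisors_iff_left.2 fun y hy => hx (hy.trans (mul_zero x).symm)
  have h3 : ringKrullDim (A ⧸ P) + 1 ≤ ringKrullDim A :=
    ringKrullDim_succ_le_of_surjective (Ideal.Quotient.mk P) Ideal.Quotient.mk_surjective hnz
      (Ideal.Quotient.eq_zero_iff_mem.2 hxP)
  have h4 := (add_le_add h2 (le_refl (1 : WithBot ℕ∞))).trans h3
  rw [hd] at h4
  exact Nat.not_succ_le_self d (by exact_mod_cast h4)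

end Local

/-- Colon ideals of regular sequences and maximal Cohen–Macaulay quotients. -/
theorem mcm_colon : ∀ (n : ℕ) (A : Type u) [CommRing A] [LocCoh.IsGorensteinLocalRing A] (d : ℕ)
    (_ : ringKrullDim A = d) (I : Ideal A) (_ : HasSeqIn (maximalIdeal A) (A ⧸ I) d) (xs : List A),
    xs.length = n → IsWeaklyRegular A xs → (∀ x ∈ xs, x ∈ maximalIdeal A) →
    IsWeaklyRegular (A ⧸ I) xs ∧
    (∀ a : A, (∀ b ∈ I, a * b ∈ Ideal.ofList xs) → a ∈ Submodule.annihilator I ⊔ Ideal.ofList xs) ∧
    Submodule.annihilator I ⊓ Ideal.ofList xs ≤ Ideal.ofList xs * Submodule.annihilator I := by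
  intro n
  induction n with
  | zero =>
    intro A _ _ d _ I _ xs hl _ _
    obtain rfl := List.length_eq_zero_iff.1 hl
    refine ⟨IsWeaklyRegular.nil _ _, fun a ha => Ideal.mem_sup_left (Submodule.mem_annihilator.2 fun b hb => ?_), ?_⟩
    · simpa [smul_eq_mul] using ha b hb
    · simp
  | succ n ih =>
    intro A _ _ d hd I hI xs hl hreg hm
    obtain ⟨x, xs, rfl⟩ := List.exists_cons_of_length_eq_add_one hl
    rw [isWeaklyRegular_cons_ring] at hreg
    obtain ⟨hx, hxs⟩ := hreg
    have hxm : x ∈ maximalIdeal A := hm x (List.mem_cons_self ..)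
    have hxM : IsSMulRegular (A ⧸ I) x := isSMulRegular_of_mcm hd hI hxm hx
    let A' := A ⧸ Ideal.span {x}
    let π : A →+* A' := Ideal.Quotient.mk _
    haveI : Nontrivial A' := Ideal.Quotient.nontrivial_iff.2
      (ne_top_of_le_ne_top (Ideal.IsMaximal.ne_top inferInstance) ((Ideal.span_singleton_le_iff_mem _).2 hxm))
    haveI : IsLocalRing A' := IsLocalRing.of_surjective' π Ideal.Quotient.mk_surjective
    haveI : LocCoh.IsGorensteinLocalRing A' := (gorenstein_quotient_iff hx hxm).1 inferInstance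
    have hdim := ringKrullDim_quotient_span_singleton_succ_eq_ringKrullDim hx hxm
    obtain ⟨d', hd'⟩ := exists_ringKrullDim_eq (R := A')
    obtain rfl : d = d' + 1 := by
      have : ((d' : ℕ) : WithBot ℕ∞) + 1 = (d : ℕ) := by rw [← hd', hdim, hd]
      exact_mod_cast this.symm
    let I' := I.map π
    -- the depth of `A'/I'`
    have hmax : maximalIdeal A' = (maximalIdeal A).map π :=
      (IsLocalRing.map_maximalIdeal_of_surjective π Ideal.Quotient.mk_surjective).symm
    let φ : (A ⧸ I) →ₗ[A] (A' ⧸ I') := Submodule.mapQ I (I'.restrictScalars A) (Algebra.linearMap A A')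
      fun a ha => Ideal.mem_map_of_mem π ha
    have hφ : ∀ a : A, φ (Submodule.Quotient.mk a) = Submodule.Quotient.mk (π a) := fun a => rfl
    have hker : x • (⊤ : Submodule A (A ⧸ I)) = LinearMap.ker φ := by
      ext z
      obtain ⟨a, rfl⟩ := Submodule.Quotient.mk_surjective _ z
      rw [LinearMap.mem_ker, hφ, Submodule.Quotient.mk_eq_zero, Submodule.mem_smul_pointwise_iff_exists]
      have hI' : π a ∈ I' ↔ a ∈ I ⊔ Ideal.span {x} := by
        rw [← Ideal.mem_comap, Ideal.comap_map_of_surjective π Ideal.Quotient.mk_surjective,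
          ← RingHom.ker_eq_comap_bot, Ideal.mk_ker]
      show _ ↔ π a ∈ I'
      rw [hI', Submodule.mem_sup]
      constructor
      · rintro ⟨w, -, hw⟩
        obtain ⟨w, rfl⟩ := Submodule.Quotient.mk_surjective _ w
        rw [← Submodule.Quotient.mk_smul, Submodule.Quotient.eq] at hw
        exact ⟨-(x • w - a), I.neg_mem hw, x * w, Ideal.mem_span_singleton'.2 ⟨w, mul_comm _ _⟩, by rw [smul_eq_mul]; ring⟩
      · rintro ⟨i, hi, s, hs, rfl⟩
        obtain ⟨c, rfl⟩ := Ideal.mem_span_singleton'.1 hs
        refine ⟨Submodule.Quotient.mk c, trivial, ?_⟩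
        rw [← Submodule.Quotient.mk_smul, Submodule.Quotient.eq, smul_eq_mul,
          show x * c - (i + c * x) = -i by ring]
        exact I.neg_mem hi
    have hφs : Function.Surjective φ := fun z => by
      obtain ⟨z, rfl⟩ := Submodule.Quotient.mk_surjective _ z
      obtain ⟨a, rfl⟩ := Ideal.Quotient.mk_surjective z
      exact ⟨Submodule.Quotient.mk a, rfl⟩
    let e : QuotSMulTop x (A ⧸ I) ≃ₗ[A] (A' ⧸ I') :=
      (Submodule.quotEquivOfEq _ _ hker).trans (φ.quotKerEquivOfSurjective hφs)
    have hI' : HasSeqIn (maximalIdeal A') (A' ⧸ I') d' := by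
      obtain ⟨rs, hl', hm', hr'⟩ := hI.quotSMulTop hxm hxM
      refine ⟨rs.map π, by simp [hl'], ?_, ?_⟩
      · intro r hr
        obtain ⟨a, ha, rfl⟩ := List.mem_map.1 hr
        rw [hmax]
        exact Ideal.mem_map_of_mem π (hm' a ha)
      · exact (isWeaklyRegular_map_algebraMap_iff A' (A' ⧸ I') rs).2 ((e.isWeaklyRegular_congr rs).1 hr')
    have hlift : ∀ a : A, (∀ b ∈ I, a * b ∈ Ideal.span {x}) → a ∈ Submodule.annihilator I ⊔ Ideal.span {x} := by
      intro a ha
      have hvan : ExtVan A (A ⧸ I) A 1 := extVan_of_hasSeqIn hd.le (d' + 1) (A ⧸ I) hI 1 (by omega)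
      let μ : A →ₗ[A] A := LinearMap.mulLeft A x
      let q : A →ₗ[A] A' := Algebra.linearMap A A'
      have hex : Function.Exact μ q := fun b => by
        show Ideal.Quotient.mk _ b = 0 ↔ _
        rw [Ideal.Quotient.eq_zero_iff_mem, Ideal.mem_span_singleton']
        exact ⟨fun ⟨c, hc⟩ => ⟨c, by show x * c = b; rw [mul_comm]; exact hc⟩, fun ⟨c, hc⟩ => ⟨c, by rw [mul_comm]; exact hc⟩⟩
      have hS := exists_ses μ q (fun u v h => hx h) Ideal.Quotient.mk_surjective hex
      let g : (A ⧸ I) →ₗ[A] A' := Submodule.liftQ I (LinearMap.toSpanSingleton A A' (π a)) fun b hb => by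
        show b • π a = 0
        rw [Algebra.smul_def, Ideal.Quotient.algebraMap_eq, ← map_mul, Ideal.Quotient.eq_zero_iff_mem, mul_comm]
        exact ha b hb
      obtain ⟨c, hc⟩ := Abelian.Ext.covariant_sequence_exact₃ (ModuleCat.of A (A ⧸ I)) hS
        (Abelian.Ext.mk₀ (ModuleCat.ofHom g)) (zero_add 1) (@Subsingleton.elim _ hvan _ _)
      obtain ⟨ψ, rfl⟩ := (Abelian.Ext.mk₀_bijective _ _).2 c
      rw [Abelian.Ext.mk₀_comp_mk₀] at hc
      have hψ := LinearMap.congr_fun (congrArg ModuleCat.Hom.hom ((Abelian.Ext.mk₀_bijective _ _).1 hc))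
        (Submodule.Quotient.mk 1)
      have hψ' : π (ψ.hom (Submodule.Quotient.mk 1)) = π a := by
        refine hψ.trans ?_
        show (1 : A) • π a = π a
        rw [one_smul]
      refine Submodule.mem_sup.2 ⟨ψ.hom (Submodule.Quotient.mk 1), Submodule.mem_annihilator.2 fun b hb => ?_,
        a - ψ.hom (Submodule.Quotient.mk 1), ?_, add_sub_cancel _ _⟩
      · rw [smul_eq_mul, mul_comm, ← smul_eq_mul, ← map_smul, ← Submodule.Quotient.mk_smul, smul_eq_mul, mul_one,
          (Submodule.Quotient.mk_eq_zero _).2 hb, map_zero]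
      · exact Ideal.Quotient.eq.1 hψ'.symm
    obtain ⟨hreg', hcol', hint'⟩ := ih A' d' hd' I' hI' (xs.map π) (by simpa using hl) hxs fun r hr => by
      obtain ⟨a, ha, rfl⟩ := List.mem_map.1 hr
      rw [hmax]
      exact Ideal.mem_map_of_mem π (hm a (List.mem_cons_of_mem _ ha))
    have hJ' : Submodule.annihilator I' ≤ (Submodule.annihilator I).map π := by
      intro z hz
      obtain ⟨a, rfl⟩ := Ideal.Quotient.mk_surjective z
      have h1 : ∀ b ∈ I, a * b ∈ Ideal.span {x} := fun b hb => by
        have := Submodule.mem_annihilator.1 hz (π b) (Ideal.mem_map_of_mem π hb)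
        rwa [smul_eq_mul, ← map_mul, Ideal.Quotient.eq_zero_iff_mem] at this
      obtain ⟨j, hj, s, hs, rfl⟩ := Submodule.mem_sup.1 (hlift a h1)
      rw [map_add, Ideal.Quotient.eq_zero_iff_mem.2 hs, add_zero]
      exact Ideal.mem_map_of_mem π hj
    have hlist : (Ideal.ofList xs).map π = Ideal.ofList (xs.map π) := Ideal.map_ofList _ _
    have hsplit : Ideal.ofList (x :: xs) = Ideal.span {x} ⊔ Ideal.ofList xs := Ideal.ofList_cons _ _
    have hkerπ : RingHom.ker π = Ideal.span {x} := Ideal.mk_ker
    refine ⟨(isWeaklyRegular_cons_iff _ _ _).2 ⟨hxM,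
      (e.isWeaklyRegular_congr xs).2 ((isWeaklyRegular_map_algebraMap_iff A' (A' ⧸ I') xs).1 hreg')⟩, fun a ha => ?_, ?_⟩
    · have h1 : ∀ z ∈ I', π a * z ∈ Ideal.ofList (xs.map π) := fun z hz => by
        obtain ⟨b, hb, rfl⟩ := (Ideal.mem_map_iff_of_surjective π Ideal.Quotient.mk_surjective).1 hz
        have := Ideal.mem_map_of_mem π (ha b hb)
        rwa [map_mul, hsplit, Ideal.map_sup, Ideal.map_quotient_self, bot_sup_eq, hlist] at this
      have h2 : π a ∈ (Submodule.annihilator I ⊔ Ideal.ofList xs).map π := by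
        rw [Ideal.map_sup, hlist]
        exact sup_le_sup_right hJ' _ (hcol' _ h1)
      rw [← Ideal.mem_comap, Ideal.comap_map_of_surjective π Ideal.Quotient.mk_surjective, ← RingHom.ker_eq_comap_bot,
        hkerπ] at h2
      rw [hsplit]
      rw [sup_assoc, sup_comm (Ideal.ofList xs)] at h2
      exact h2
    · rintro a ⟨haJ, haL⟩
      have h1 : π a ∈ Submodule.annihilator I' ⊓ Ideal.ofList (xs.map π) := by
        refine ⟨Submodule.mem_annihilator.2 fun z hz => ?_, ?_⟩
        · obtain ⟨b, hb, rfl⟩ := (Ideal.mem_map_iff_of_surjective π Ideal.Quotient.mk_surjective).1 hz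
          have : a * b = 0 := Submodule.mem_annihilator.1 haJ b hb
          rw [smul_eq_mul, ← map_mul, this, map_zero]
        · have := Ideal.mem_map_of_mem π haL
          rwa [hsplit, Ideal.map_sup, Ideal.map_quotient_self, bot_sup_eq, hlist] at this
      have h2 : π a ∈ (Ideal.ofList xs * Submodule.annihilator I).map π := by
        rw [Ideal.map_mul, hlist]
        exact Ideal.mul_mono le_rfl hJ' (hint' h1)
      rw [← Ideal.mem_comap, Ideal.comap_map_of_surjective π Ideal.Quotient.mk_surjective, ← RingHom.ker_eq_comap_bot,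
        hkerπ, Submodule.mem_sup] at h2
      obtain ⟨y, hy, s, hs, rfl⟩ := h2
      obtain ⟨c, rfl⟩ := Ideal.mem_span_singleton'.1 hs
      have hyJ : y ∈ Submodule.annihilator I := Ideal.mul_le_right hy
      have hcJ : c ∈ Submodule.annihilator I := by
        refine Submodule.mem_annihilator.2 fun b hb => hx ?_
        have h3 : (c * x) * b = 0 := Submodule.mem_annihilator.1 ((Submodule.annihilator I).add_mem_iff_right hyJ |>.1 haJ) b hb
        show x * (c * b) = x * 0
        rw [mul_zero, ← mul_assoc, mul_comm x c]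
        exact h3
      rw [hsplit, Ideal.sup_mul]
      rw [add_comm y]
      refine Submodule.add_mem_sup ?_ hy
      rw [mul_comm c x]
      exact Ideal.mul_mem_mul (Ideal.mem_span_singleton_self x) hcJ

section Flat

variable {R : Type u} [CommRing R] {M : Type u} [AddCommGroup M] [Module R M]

/-- `I ⊗ M → M` is injective when `I` is generated by an `M`-regular sequence. -/
theorem rTensor_injective_ofList : ∀ rs : List R, IsWeaklyRegular M rs.reverse →
    Function.Injective (LinearMap.rTensor M (Submodule.subtype (Ideal.ofList rs)))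
  | [], _ => by
    haveI : Subsingleton (Ideal.ofList ([] : List R)) := by
      rw [Ideal.ofList_nil]; infer_instance
    exact Function.injective_of_subsingleton _
  | a :: rs, h => by
    rw [List.reverse_cons, isWeaklyRegular_append_iff] at h
    obtain ⟨h1, h2⟩ := h
    have ha : IsSMulRegular (M ⧸ (Ideal.ofList rs.reverse • ⊤ : Submodule R M)) a := by
      rw [isWeaklyRegular_cons_iff] at h2; exact h2.1
    have hrev : Ideal.ofList rs.reverse = Ideal.ofList rs := by
      unfold Ideal.ofList; congr 1; ext; simp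
    have ih := rTensor_injective_ofList rs h1
    let J := Ideal.ofList rs
    let L := Ideal.ofList (a :: rs)
    have haL : a ∈ L := Ideal.subset_span (by simp)
    have hJL : J ≤ L := by rw [show L = Ideal.span {a} ⊔ J from Ideal.ofList_cons a rs]; exact le_sup_right
    let inc : J ⊗[R] M →ₗ[R] L ⊗[R] M := LinearMap.rTensor M (Submodule.inclusion hJL)
    have hdec : ∀ t : L ⊗[R] M, ∃ u m, t = inc u + (⟨a, haL⟩ : L) ⊗ₜ m := by
      intro t
      induction t using TensorProduct.induction_on with
      | zero => exact ⟨0, 0, by simp⟩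
      | tmul l m =>
        obtain ⟨c, hc, j, hj, hl⟩ := Submodule.mem_sup.1
          (show (l : R) ∈ Ideal.span {a} ⊔ J by rw [← Ideal.ofList_cons]; exact l.2)
        obtain ⟨r, rfl⟩ := Ideal.mem_span_singleton'.1 hc
        refine ⟨(⟨j, hj⟩ : J) ⊗ₜ m, r • m, ?_⟩
        rw [LinearMap.rTensor_tmul, TensorProduct.tmul_smul, TensorProduct.smul_tmul', ← TensorProduct.add_tmul]
        congr 1
        refine Subtype.ext ?_
        show (l : R) = j + r * a
        rw [← hl, add_comm]
      | add x y hx hy =>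
        obtain ⟨u, m, rfl⟩ := hx
        obtain ⟨u', m', rfl⟩ := hy
        exact ⟨u + u', m + m', by rw [map_add, TensorProduct.tmul_add]; abel⟩
    let ev : ∀ K : Ideal R, K ⊗[R] M →ₗ[R] M := fun K =>
      (TensorProduct.lid R M).toLinearMap ∘ₗ LinearMap.rTensor M (Submodule.subtype K)
    have hev : ∀ u, ev L (inc u) = ev J u := fun u => by
      show _ = _
      simp only [ev, inc, LinearMap.comp_apply, ← LinearMap.rTensor_comp_apply]
      rfl
    rw [injective_iff_map_eq_zero]
    intro t ht
    have ht' : ev L t = 0 := by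
      show TensorProduct.lid R M (LinearMap.rTensor M (Submodule.subtype L) t) = 0
      rw [ht, map_zero]
    obtain ⟨u, m, rfl⟩ := hdec t
    rw [map_add, hev] at ht'
    have hm : m ∈ J • (⊤ : Submodule R M) := by
      have hu : ∀ u : J ⊗[R] M, ev J u ∈ J • (⊤ : Submodule R M) := by
        intro u
        induction u using TensorProduct.induction_on with
        | zero => simp
        | tmul j m => exact Submodule.smul_mem_smul j.2 trivial
        | add x y hx hy => rw [map_add]; exact add_mem hx hy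
      have h3 : a • (Submodule.Quotient.mk m : M ⧸ (Ideal.ofList rs.reverse • ⊤ : Submodule R M)) = 0 := by
        rw [← Submodule.Quotient.mk_smul, Submodule.Quotient.mk_eq_zero, hrev]
        have : a • m = -(ev J u) := eq_neg_of_add_eq_zero_right ht'
        rw [this]
        exact neg_mem (hu u)
      have := ha (h3.trans (smul_zero a).symm)
      rwa [Submodule.Quotient.mk_eq_zero, hrev] at this
    have hfac : ∀ m ∈ J • (⊤ : Submodule R M), ∃ v, (⟨a, haL⟩ : L) ⊗ₜ[R] m = inc v := by
      intro m hm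
      refine Submodule.smul_induction_on hm (fun j hj y _ => ?_) (fun x y hx hy => ?_)
      · refine ⟨(⟨j, hj⟩ : J) ⊗ₜ (a • y), ?_⟩
        rw [LinearMap.rTensor_tmul, TensorProduct.tmul_smul, TensorProduct.tmul_smul, TensorProduct.smul_tmul',
          TensorProduct.smul_tmul']
        congr 1
        refine Subtype.ext ?_
        show j * a = a * j
        rw [mul_comm]
      · obtain ⟨v, hv⟩ := hx
        obtain ⟨v', hv'⟩ := hy
        exact ⟨v + v', by rw [TensorProduct.tmul_add, hv, hv', map_add]⟩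
    obtain ⟨v, hv⟩ := hfac m hm
    rw [hv, ← map_add] at ht ⊢
    have : u + v = 0 := ih (by
      rw [map_zero]
      refine (TensorProduct.lid R M).injective ?_
      rw [map_zero]
      show ev J (u + v) = 0
      rw [← hev]
      show TensorProduct.lid R M (LinearMap.rTensor M (Submodule.subtype L) (inc (u + v))) = 0
      rw [ht, map_zero])
    rw [this, map_zero]

end Flat

end GorLib

namespace GorLib

open CommAlgDim in
theorem hasSeqIn_of_cm {A : Type u} [CommRing A] [IsLocalRing A] (I : Ideal A) [LocCoh.IsCohenMacaulayLocalRing (A ⧸ I)]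
    {d : ℕ} (hd : ringKrullDim (A ⧸ I) = d) : HasSeqIn (maximalIdeal A) (A ⧸ I) d := by
  obtain ⟨ys, hys, hlen⟩ := SMTLib.isCM_of_isCohenMacaulayLocalRing (A ⧸ I)
  have hs : ys.length = d := by
    rw [hd] at hlen
    exact_mod_cast hlen.symm
  have hmap : (ys.map (Function.surjInv Ideal.Quotient.mk_surjective)).map (algebraMap A (A ⧸ I)) = ys := by
    rw [List.map_map]
    conv_rhs => rw [← List.map_id ys]
    exact List.map_congr_left fun y _ => Function.surjInv_eq Ideal.Quotient.mk_surjective y
  refine ⟨ys.map (Function.surjInv Ideal.Quotient.mk_surjective), by rw [List.length_map, hs], ?_, ?_⟩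
  · intro r hr
    obtain ⟨y, hy, rfl⟩ := List.mem_map.1 hr
    have hym := mem_maximalIdeal_of_isRegular hys y hy
    rw [mem_maximalIdeal, mem_nonunits_iff] at hym ⊢
    intro hu
    apply hym
    have := hu.map (Ideal.Quotient.mk I)
    rwa [Function.surjInv_eq Ideal.Quotient.mk_surjective y] at this
  · rw [← isWeaklyRegular_map_algebraMap_iff (A ⧸ I) (A ⧸ I), hmap]
    exact hys.toIsWeaklyRegular

/-- The image of a regular sequence of the base in a flat local algebra. -/
theorem isWeaklyRegular_map_of_flat {R A : Type u} [CommRing R] [IsLocalRing R] [CommRing A] [IsLocalRing A]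
    [Algebra R A] [IsLocalHom (algebraMap R A)] [Module.Flat R A] {rs : List R} (hrs : IsRegular R rs) :
    IsWeaklyRegular A (rs.map (algebraMap R A)) ∧ ∀ a ∈ rs.map (algebraMap R A), a ∈ maximalIdeal A := by
  refine ⟨IsWeaklyRegular.of_flat (S := A) hrs.toIsWeaklyRegular, fun a ha => ?_⟩
  obtain ⟨r, hr, rfl⟩ := List.mem_map.1 ha
  have hrm := CommAlgDim.mem_maximalIdeal_of_isRegular hrs r hr
  exact (map_mem_nonunits_iff (algebraMap R A) r).2 hrm

end GorLib

namespace GorLib

open TensorProduct in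
/-- `𝔪 ⊗ (A ⧸ J) → A ⧸ J` is injective when `A` is flat and `J ⊓ 𝔪A ≤ 𝔪A * J`. -/
theorem rTensor_injective_quotient {R A : Type u} [CommRing R] [CommRing A] [Algebra R A] [Module.Flat R A]
    (m : Ideal R) (J : Ideal A) (h : J ⊓ m.map (algebraMap R A) ≤ m.map (algebraMap R A) * J) :
    Function.Injective (LinearMap.rTensor (A ⧸ J) (Submodule.subtype m)) := by
  let ev : (m : Submodule R R) ⊗[R] A →ₗ[R] A :=
    (TensorProduct.lid R A).toLinearMap ∘ₗ LinearMap.rTensor A (Submodule.subtype m)
  have hev : Function.Injective ev :=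
    (TensorProduct.lid R A).injective.comp (Module.Flat.rTensor_preserves_injective_linearMap _ m.injective_subtype)
  let π : A →ₗ[R] A ⧸ J := (Ideal.Quotient.mkₐ R J).toLinearMap
  let ι : (J.restrictScalars R) →ₗ[R] A := (J.restrictScalars R).subtype
  rw [injective_iff_map_eq_zero]
  intro t ht
  obtain ⟨t', rfl⟩ := LinearMap.lTensor_surjective (R := R) (Q := (m : Submodule R R)) (g := π)
    Ideal.Quotient.mk_surjective t
  have h1 : ev t' ∈ J := by
    rw [← Ideal.Quotient.eq_zero_iff_mem]
    have h2 : ∀ u, π (ev u) = TensorProduct.lid R (A ⧸ J)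
        (LinearMap.rTensor (A ⧸ J) (Submodule.subtype m) (LinearMap.lTensor (m : Submodule R R) π u)) := by
      intro u
      induction u using TensorProduct.induction_on with
      | zero => simp
      | tmul r a => simp [ev]
      | add x y hx hy => simp only [map_add, hx, hy]
    have h3 := h2 t'
    rw [ht, map_zero] at h3
    exact h3
  have h4 : ev t' ∈ m.map (algebraMap R A) := by
    clear h1 ht
    induction t' using TensorProduct.induction_on with
    | zero => simp
    | tmul r a =>
      show (r : R) • a ∈ _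
      rw [Algebra.smul_def]
      exact Ideal.mul_mem_right a _ (Ideal.mem_map_of_mem _ r.2)
    | add x y hx hy => rw [map_add]; exact add_mem hx hy
  have h5 : ∀ z ∈ m.map (algebraMap R A) * J, ∃ s, z = ev (LinearMap.lTensor (m : Submodule R R) ι s) := by
    intro z hz
    refine Submodule.mul_induction_on hz (fun a ha j hj => ?_) (fun x y ⟨s, hs⟩ ⟨s', hs'⟩ => ⟨s + s', by
      rw [map_add, map_add, hs, hs']⟩)
    revert j
    refine Submodule.span_induction ?_ ?_ ?_ ?_ ha
    · rintro _ ⟨r, hr, rfl⟩ j hj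
      refine ⟨(⟨r, hr⟩ : (m : Submodule R R)) ⊗ₜ (⟨j, hj⟩ : J.restrictScalars R), ?_⟩
      show _ = r • j
      rw [Algebra.smul_def]
    · intro j hj
      exact ⟨0, by simp⟩
    · intro x y _ _ hx hy j hj
      obtain ⟨s, hs⟩ := hx j hj
      obtain ⟨s', hs'⟩ := hy j hj
      exact ⟨s + s', by rw [map_add, map_add, add_mul, hs, hs']⟩
    · intro c x _ hx j hj
      obtain ⟨s, hs⟩ := hx (c * j) (Ideal.mul_mem_left J c hj)
      exact ⟨s, by rw [← hs, smul_eq_mul]; ring⟩
  obtain ⟨s, hs⟩ := h5 _ (h ⟨h1, h4⟩)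
  rw [hev hs, ← LinearMap.lTensor_comp_apply]
  have h6 : π ∘ₗ ι = 0 := by
    ext j
    exact Ideal.Quotient.eq_zero_iff_mem.2 j.2
  rw [h6, LinearMap.lTensor_zero, LinearMap.zero_apply]

open IsLocalRing RingTheory.Sequence in
theorem exists_regular_generators (R : Type u) [CommRing R] [IsRegularLocalRing R] :
    ∃ rs : List R, IsRegular R rs ∧ IsRegular R rs.reverse ∧ Ideal.ofList rs = maximalIdeal R := by
  letI := Ideal.Quotient.field (maximalIdeal R)
  obtain ⟨rs, hrs, hm⟩ := CommAlgDim.exists_isRegular_of_regular_quotient (J := maximalIdeal R)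
  refine ⟨rs, hrs, hrs.of_perm_of_subset_jacobson_annihilator (List.reverse_perm rs).symm ?_, hm⟩
  exact fun r hr => maximalIdeal_le_jacobson _ (CommAlgDim.mem_maximalIdeal_of_isRegular hrs r hr)

end GorLib
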