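import Groth.Agent.GorLib.Socle
import Groth.Agent.KoszDetLib.Cone
import Groth.Agent.KRLib.Model
import Mathlib.RingTheory.Regular.RegularSequence

/-! # Koszul exact families are regular sequences; Gorenstein quotients by regular sequences -/

set_option autoImplicit false

universe u

open IsLocalRing KoszDetLib RingTheory.Sequence

namespace GorLib

theorem isWeaklyRegular_cons_ring {R : Type u} [CommRing R] {x : R} {rs : List R} :
    IsWeaklyRegular R (x :: rs) ↔ IsSMulRegular R x ∧
      IsWeaklyRegular (R ⧸ Ideal.span {x}) (rs.map (Ideal.Quotient.mk (Ideal.span {x}))) := by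
  rw [isWeaklyRegular_cons_iff']
  have e : QuotSMulTop x R ≃ₗ[R] R ⧸ Ideal.span {x} :=
    Submodule.quotEquivOfEq _ _ (by simp [← Submodule.ideal_span_singleton_smul])
  exact and_congr Iff.rfl ((e.extendScalarsOfSurjective Ideal.Quotient.mk_surjective).isWeaklyRegular_congr _)

section Koszul

variable {Q : Type u} [CommRing Q]

/-- The first element of a Koszul exact family is regular modulo the others. -/
theorem mul_mem_of_isExactK {n : ℕ} {f : Fin (n + 1) → Q} (hf : IsExactK f) {c : Q}
    (hc : f 0 * c ∈ Ideal.span (Set.range (Fin.tail f))) : c ∈ Ideal.span (Set.range (Fin.tail f)) := by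
  obtain ⟨a', ha'⟩ := mem_range_proj_zero (Fin.tail f) _ hc
  have ha : D (Fin.tail f) (proj 1 a') = (f 0 * c) • one n := by
    rw [D_proj_succ, ha', proj_zero_eq, map_smul, eps_one, smul_eq_mul, mul_one]
  have hea : eps (proj 1 a') = 0 := by
    show proj 1 a' (bot n) = 0
    rw [proj_apply, if_neg (by rw [deg_bot]; exact Nat.zero_ne_one)]
  let X : Kz Q (n + 1) := join (-(proj 1 a'), c • one n)
  have hX : D f X = 0 := by
    refine join_ext ?_ ?_
    · rw [pa_D, pa_join, pb_join, map_neg, ha, smul_smul, neg_add_cancel, map_zero]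
    · rw [pb_D, pb_join, map_smul, D_one, smul_zero, neg_zero, map_zero]
  have hXe : eps X ∈ Ideal.span (Set.range f) := by
    show -(eps (proj 1 a')) ∈ _
    rw [hea, neg_zero]
    exact Ideal.zero_mem _
  obtain ⟨W, hW⟩ := hf X hX hXe
  have hW2 : -D (Fin.tail f) (pb W) = c • one n := by rw [← pb_D, hW, pb_join]
  have := congrArg eps hW2
  rw [map_neg, map_smul, eps_one, smul_eq_mul, mul_one] at this
  rw [← this]
  exact neg_mem (eps_D_mem (Fin.tail f) (pb W))

/-- Over a noetherian local ring the tail of a Koszul exact family is Koszul exact. -/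
theorem isExactK_tail [IsLocalRing Q] [IsNoetherianRing Q] {n : ℕ} {f : Fin (n + 1) → Q} (hf : IsExactK f)
    (h0 : f 0 ∈ maximalIdeal Q) : IsExactK (Fin.tail f) := by
  have hsub : Ideal.span (Set.range (Fin.tail f)) ≤ Ideal.span (Set.range f) :=
    Ideal.span_mono (Set.range_comp_subset_range Fin.succ f)
  let Z : Submodule Q (Kz Q n) :=
    LinearMap.ker (D (Fin.tail f)) ⊓ Submodule.comap (eps (Q := Q) (n := n)) (Ideal.span (Set.range (Fin.tail f)))
  have hle : Z ≤ LinearMap.range (D (Fin.tail f)) ⊔ Ideal.span {f 0} • Z := by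
    rintro z ⟨hz1, hz2⟩
    have hX : D f (join (z, 0)) = 0 := by
      refine join_ext ?_ ?_
      · rw [pa_D, pa_join, pb_join, smul_zero, add_zero, map_zero]; exact hz1
      · rw [pb_D, pb_join, map_zero, neg_zero, map_zero]
    obtain ⟨W, hW⟩ := hf _ hX (hsub hz2)
    have h1 : D (Fin.tail f) (pa W) + f 0 • pb W = z := by rw [← pa_D, hW, pa_join]
    have h2 : D (Fin.tail f) (pb W) = 0 := by rw [← neg_eq_zero, ← pb_D, hW, pb_join]
    have h3 : f 0 * eps (pb W) ∈ Ideal.span (Set.range (Fin.tail f)) := by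
      have := congrArg eps h1
      rw [map_add, map_smul, smul_eq_mul] at this
      rw [eq_sub_of_add_eq' this]
      exact Ideal.sub_mem _ hz2 (eps_D_mem _ _)
    rw [← h1]
    exact Submodule.add_mem_sup ⟨pa W, rfl⟩
      (Submodule.smul_mem_smul (Ideal.mem_span_singleton_self _) ⟨h2, mul_mem_of_isExactK hf h3⟩)
  have hZ := Submodule.le_of_le_smul_of_le_jacobson_bot (IsNoetherian.noetherian Z)
    (((Ideal.span_singleton_le_iff_mem _).2 h0).trans (maximalIdeal_le_jacobson ⊥)) hle
  exact fun x hx he => hZ ⟨hx, he⟩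

theorem isWeaklyRegular_reverse_of_isExactK [IsLocalRing Q] [IsNoetherianRing Q] :
    ∀ {n : ℕ} (f : Fin n → Q), IsExactK f → (∀ i, f i ∈ maximalIdeal Q) →
      IsWeaklyRegular Q (List.ofFn f).reverse
  | 0, _, _, _ => by simp
  | n + 1, f, hf, hm => by
    rw [List.ofFn_succ, List.reverse_cons, isWeaklyRegular_append_iff]
    refine ⟨isWeaklyRegular_reverse_of_isExactK (Fin.tail f) (isExactK_tail hf (hm 0)) fun i => hm _, ?_⟩
    rw [isWeaklyRegular_cons_iff]
    refine ⟨?_, IsWeaklyRegular.nil _ _⟩
    have hI : (Ideal.ofList (List.ofFn (fun i : Fin n => f i.succ)).reverse • ⊤ : Submodule Q Q) =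
        Ideal.span (Set.range (Fin.tail f)) := by
      rw [smul_eq_mul, Ideal.mul_top]
      unfold Ideal.ofList
      congr 1
      ext x
      simp [List.mem_ofFn, Fin.tail]
    intro a b hab
    induction a using Submodule.Quotient.induction_on with
    | _ a => ?_
    induction b using Submodule.Quotient.induction_on with
    | _ b => ?_
    refine (Submodule.Quotient.eq _).2 ?_
    have h := (Submodule.Quotient.eq _).1 hab
    rw [hI] at h ⊢
    refine mul_mem_of_isExactK hf ?_
    rwa [mul_sub]

end Koszul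

/-- Gorenstein rings and quotients by weakly regular sequences in the maximal ideal. -/
theorem gorenstein_quotient_ofList_iff : ∀ (n : ℕ) (R : Type u) [CommRing R] [IsLocalRing R] [IsNoetherianRing R]
    (rs : List R), rs.length = n → IsWeaklyRegular R rs → (∀ r ∈ rs, r ∈ maximalIdeal R) →
    (LocCoh.IsGorensteinLocalRing R ↔ LocCoh.IsGorensteinLocalRing (R ⧸ Ideal.ofList rs)) := by
  intro n
  induction n with
  | zero =>
    intro R _ _ _ rs hl _ _
    obtain rfl := List.length_eq_zero_iff.1 hl
    exact gorenstein_congr ((RingEquiv.quotientBot R).symm.trans (Ideal.quotEquivOfEq (by simp)))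
  | succ n ih =>
    intro R _ _ _ rs hl hreg hm
    obtain ⟨r, rs, rfl⟩ := List.exists_cons_of_length_eq_add_one hl
    rw [isWeaklyRegular_cons_ring] at hreg
    obtain ⟨hr, hrs⟩ := hreg
    have hrm : r ∈ maximalIdeal R := hm r (List.mem_cons_self ..)
    haveI : Nontrivial (R ⧸ Ideal.span {r}) := Ideal.Quotient.nontrivial_iff.2
      (ne_top_of_le_ne_top (Ideal.IsMaximal.ne_top inferInstance) ((Ideal.span_singleton_le_iff_mem _).2 hrm))
    haveI : IsLocalRing (R ⧸ Ideal.span {r}) :=
      IsLocalRing.of_surjective' (Ideal.Quotient.mk _) Ideal.Quotient.mk_surjective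
    rw [gorenstein_quotient_iff hr hrm, ih (R ⧸ Ideal.span {r}) (rs.map (Ideal.Quotient.mk _))
      (by simpa using hl) hrs fun x hx => by
        obtain ⟨y, hy, rfl⟩ := List.mem_map.1 hx
        rw [← IsLocalRing.map_maximalIdeal_of_surjective (Ideal.Quotient.mk (Ideal.span {r})) Ideal.Quotient.mk_surjective]
        exact Ideal.mem_map_of_mem _ (hm y (List.mem_cons_of_mem _ hy))]
    refine gorenstein_congr ((Ideal.quotEquivOfEq ?_).trans ((DoubleQuot.quotQuotEquivQuotSup (Ideal.span {r})
      (Ideal.ofList rs)).trans (Ideal.quotEquivOfEq ?_)))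
    · rw [Ideal.map_ofList]
    · rw [Ideal.ofList_cons]

/-- The quotient of a Gorenstein local ring by a Koszul exact family in the maximal ideal is Gorenstein. -/
theorem gorenstein_quotient_of_isExactK {R : Type u} [CommRing R] [IsLocalRing R] [IsNoetherianRing R]
    (hR : LocCoh.IsGorensteinLocalRing R) {n : ℕ} {f : Fin n → R} (hf : IsExactK f) (hm : ∀ i, f i ∈ maximalIdeal R) :
    LocCoh.IsGorensteinLocalRing (R ⧸ Ideal.span (Set.range f)) := by
  refine gorenstein_of_ringEquiv (Ideal.quotEquivOfEq ?_) ((gorenstein_quotient_ofList_iff _ R _ rfl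
    (isWeaklyRegular_reverse_of_isExactK f hf hm) fun r hr => by
      rw [List.mem_reverse, List.mem_ofFn] at hr
      obtain ⟨i, rfl⟩ := hr
      exact hm i).1 hR)
  unfold Ideal.ofList
  congr 1
  ext x
  simp [List.mem_ofFn]

end GorLib
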