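import Groth.Agent.GorLib.Basic
import Groth.Agent.InjHullLib.Change
import Mathlib.RingTheory.Length
import Mathlib.RingTheory.HopkinsLevitzki
import Mathlib.RingTheory.SimpleModule.Basic

/-! # Artinian Gorenstein rings: the socle is cyclic; invariance under isomorphisms -/

set_option autoImplicit false

universe u

open IsLocalRing

namespace GorLib

variable {R : Type u} [CommRing R]

variable (R) in
/-- The socle of `R` is generated by one non-zero element. -/
def SocCyclic [IsLocalRing R] : Prop :=
  ∃ s : R, s ≠ 0 ∧ (∀ a ∈ maximalIdeal R, a * s = 0) ∧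
    ∀ x : R, (∀ a ∈ maximalIdeal R, a * x = 0) → x ∈ Ideal.span {s}

theorem socCyclic_of_injective [IsLocalRing R] [IsNoetherianRing R] (hR : Module.Injective R R)
    (hm : maximalIdeal R ∈ associatedPrimes R R) : SocCyclic R := by
  obtain ⟨hp, s, hs⟩ := isAssociatedPrime_iff.1 hm
  have hs' : ∀ a, a ∈ maximalIdeal R ↔ a * s = 0 := fun a => by
    rw [hs, Submodule.mem_colon_singleton, Submodule.mem_bot, smul_eq_mul]
  refine ⟨s, ?_, fun a ha => (hs' a).1 ha, fun x hx => ?_⟩
  · rintro rfl
    exact hp.ne_top ((Ideal.eq_top_iff_one _).2 ((hs' 1).2 (mul_zero _)))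
  · have hker : LinearMap.ker (LinearMap.toSpanSingleton R R s) ≤ LinearMap.ker (LinearMap.toSpanSingleton R R x) :=
      fun a ha => hx a ((hs' a).2 ha)
    let K := LinearMap.ker (LinearMap.toSpanSingleton R R s)
    let i : (R ⧸ K) →ₗ[R] R := K.liftQ (LinearMap.toSpanSingleton R R s) le_rfl
    have hi : Function.Injective i := LinearMap.ker_eq_bot.1 (Submodule.ker_liftQ_eq_bot _ _ _ le_rfl)
    obtain ⟨h, hh⟩ := hR.out i hi (K.liftQ (LinearMap.toSpanSingleton R R x) hker)
    refine Ideal.mem_span_singleton'.2 ⟨h 1, ?_⟩
    have := hh (Submodule.Quotient.mk 1)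
    simp only [i, Submodule.liftQ_apply, LinearMap.toSpanSingleton_apply, one_smul] at this
    rw [← this, mul_comm, ← smul_eq_mul, ← map_smul, smul_eq_mul, mul_one]

theorem length_dual_le [IsLocalRing R] (h : SocCyclic R) {X : Type u} [AddCommGroup X] [Module R X]
    (hX : IsFiniteLength R X) : Module.length R (X →ₗ[R] R) ≤ Module.length R X := by
  induction hX with
  | of_subsingleton => simp [Module.length_eq_zero]
  | @of_simple_quotient X _ _ N hN _ ih =>
    obtain ⟨s, hs0, hs, hsoc⟩ := h
    have hq : Module.length R ((X ⧸ N) →ₗ[R] R) ≤ 1 := by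
      obtain ⟨m, hmax, ⟨e⟩⟩ := isSimpleModule_iff_quot_maximal.1 hN
      have hmm : m = maximalIdeal R := IsLocalRing.eq_maximalIdeal hmax
      subst hmm
      let ev : ((R ⧸ maximalIdeal R) →ₗ[R] R) →ₗ[R] R :=
        { toFun := fun φ => φ (Submodule.Quotient.mk 1)
          map_add' := fun _ _ => rfl
          map_smul' := fun _ _ => rfl }
      have hev : Function.Injective ev := fun φ ψ h => Submodule.linearMap_qext _ (LinearMap.ext_ring h)
      have hrange : LinearMap.range ev ≤ Ideal.span {s} := by
        rintro _ ⟨φ, rfl⟩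
        refine hsoc _ fun a ha => ?_
        show a • φ (Submodule.Quotient.mk 1) = 0
        rw [← map_smul, ← Submodule.Quotient.mk_smul, smul_eq_mul, mul_one,
          (Submodule.Quotient.mk_eq_zero _).2 ha, map_zero]
      have hker : LinearMap.ker (LinearMap.toSpanSingleton R R s) = maximalIdeal R :=
        le_antisymm (le_maximalIdeal fun h => hs0 (by
          have : (1 : R) ∈ LinearMap.ker (LinearMap.toSpanSingleton R R s) := h ▸ Submodule.mem_top
          simpa using this)) fun a ha => hs a ha
      have h1 : Module.length R (Ideal.span {s}) = 1 := by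
        rw [Module.length_eq_one_iff]
        haveI : IsSimpleModule R (R ⧸ maximalIdeal R) :=
          isSimpleModule_iff_quot_maximal.2 ⟨_, inferInstance, ⟨LinearEquiv.refl _ _⟩⟩
        exact IsSimpleModule.congr (((Submodule.quotEquivOfEq _ _ hker.symm).trans
          ((LinearMap.toSpanSingleton R R s).quotKerEquivRange.trans
            (LinearEquiv.ofEq _ _ (LinearMap.range_toSpanSingleton s)))).symm)
      rw [(LinearEquiv.congrLeft R R e).length_eq, ← h1]
      exact Module.length_le_of_injective (ev.codRestrict _ fun φ => hrange ⟨φ, rfl⟩)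
        fun φ ψ h => hev (congrArg Subtype.val h)
    let res : (X →ₗ[R] R) →ₗ[R] (N →ₗ[R] R) := LinearMap.lcomp R R N.subtype
    let inf : ((X ⧸ N) →ₗ[R] R) →ₗ[R] (X →ₗ[R] R) := LinearMap.lcomp R R N.mkQ
    have hinf : Function.Injective inf := fun φ ψ h => Submodule.linearMap_qext _ h
    have hex : Function.Exact inf res.rangeRestrict := fun φ => by
      constructor
      · intro h0
        have h1 : φ ∘ₗ N.subtype = 0 := congrArg Subtype.val h0
        exact ⟨N.liftQ φ fun x hx => LinearMap.congr_fun h1 ⟨x, hx⟩, LinearMap.ext fun x => rfl⟩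
      · rintro ⟨ψ, rfl⟩
        refine Subtype.ext (LinearMap.ext fun x => ?_)
        show ψ (Submodule.Quotient.mk (x : X)) = 0
        rw [(Submodule.Quotient.mk_eq_zero N).2 x.2, map_zero]
    have hres : Function.Surjective res.rangeRestrict := fun ⟨_, x, rfl⟩ => ⟨x, rfl⟩
    have key := Module.length_eq_add_of_exact (P := LinearMap.range res) inf res.rangeRestrict hinf hres hex
    rw [key,
      Module.length_eq_add_of_exact N.subtype N.mkQ (Submodule.injective_subtype N) (Submodule.mkQ_surjective N)
        (LinearMap.exact_subtype_mkQ N), Module.length_eq_one_iff.2 hN, add_comm]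
    gcongr
    exact (Module.length_le_of_injective (LinearMap.range res).subtype (Submodule.injective_subtype _)).trans ih

/-- An artinian local ring with cyclic socle is self-injective. -/
theorem injective_of_socCyclic [IsLocalRing R] [IsArtinianRing R] (h : SocCyclic R) : Module.Injective R R := by
  have hlen : ∀ X : Submodule R R, Module.length R (X →ₗ[R] R) ≤ Module.length R X := fun X =>
    length_dual_le h (isFiniteLength_iff_isNoetherian_isArtinian.2 ⟨inferInstance, inferInstance⟩)
  have hne : ∀ (X : Type u) [AddCommGroup X] [Module R X] [Module.Finite R X], Module.length R X ≠ ⊤ :=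
    fun X _ _ _ => Module.length_ne_top_iff.2 (isFiniteLength_iff_isNoetherian_isArtinian.2 ⟨inferInstance, inferInstance⟩)
  refine Module.Baer.injective fun I φ => ?_
  let mu : R →ₗ[R] (I →ₗ[R] R) := LinearMap.toSpanSingleton R (I →ₗ[R] R) I.subtype
  let A : Ideal R := LinearMap.ker mu
  -- `ann I ≅ Hom(R/I, R)`
  let toA : ((R ⧸ I) →ₗ[R] R) →ₗ[R] R :=
    { toFun := fun ψ => ψ (Submodule.Quotient.mk 1)
      map_add' := fun _ _ => rfl
      map_smul' := fun _ _ => rfl }
  have hA : Module.length R A ≤ Module.length R (R ⧸ I) := by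
    let g : A →ₗ[R] ((R ⧸ I) →ₗ[R] R) :=
      { toFun := fun a => Submodule.liftQ I (LinearMap.toSpanSingleton R R (a : R)) fun x hx => by
          have := LinearMap.congr_fun a.2 ⟨x, hx⟩
          show x • (a : R) = 0
          rw [smul_eq_mul, mul_comm]; exact this
        map_add' := fun a b => Submodule.linearMap_qext _ (LinearMap.ext fun x => by
          show x • ((a : R) + (b : R)) = x • (a : R) + x • (b : R)
          exact smul_add _ _ _)
        map_smul' := fun c a => Submodule.linearMap_qext _ (LinearMap.ext fun x => by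
          show x • (c • (a : R)) = c • (x • (a : R))
          exact smul_comm _ _ _) }
    have hg : Function.Injective g := fun a b hab => Subtype.ext (by
      have h := LinearMap.congr_fun hab (Submodule.Quotient.mk 1)
      have h' : (1 : R) • (a : R) = (1 : R) • (b : R) := h
      simpa using h')
    exact (Module.length_le_of_injective g hg).trans
      (length_dual_le h (isFiniteLength_iff_isNoetherian_isArtinian.2 ⟨inferInstance, inferInstance⟩))
  have hmu : Function.Surjective mu.rangeRestrict := fun ⟨_, x, rfl⟩ => ⟨x, rfl⟩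
  have hmuex : Function.Exact A.subtype mu.rangeRestrict := fun a => by
      constructor
      · intro ha
        have ha' : mu a = 0 := congrArg Subtype.val ha
        exact ⟨⟨a, ha'⟩, rfl⟩
      · rintro ⟨a, rfl⟩; exact Subtype.ext a.2
  have e1 := Module.length_eq_add_of_exact (P := LinearMap.range mu) A.subtype mu.rangeRestrict (Submodule.injective_subtype A) hmu hmuex
  have e2 := Module.length_eq_add_of_exact I.subtype I.mkQ (Submodule.injective_subtype I) (Submodule.mkQ_surjective I)
    (LinearMap.exact_subtype_mkQ I)
  have hsurj : LinearMap.range mu = ⊤ := by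
    by_contra hne'
    have hlt : Module.length R (LinearMap.range mu) < Module.length R (I →ₗ[R] R) := Submodule.length_lt hne'
    have h1 : Module.length R R ≤ Module.length R (R ⧸ I) + Module.length R (LinearMap.range mu) :=
      e1.trans_le (add_le_add hA le_rfl)
    have h2 : Module.length R (LinearMap.range mu) < Module.length R I := lt_of_lt_of_le hlt (hlen I)
    have h3 : Module.length R (R ⧸ I) + Module.length R (LinearMap.range mu) < Module.length R R := by
      rw [e2, add_comm (Module.length R I)]
      exact WithTop.add_lt_add_left (hne _) h2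
    exact (lt_irrefl _) (lt_of_le_of_lt h1 h3)
  obtain ⟨r, hr⟩ : φ ∈ LinearMap.range mu := hsurj ▸ Submodule.mem_top
  refine ⟨LinearMap.toSpanSingleton R R r, fun x hx => ?_⟩
  rw [← hr]
  show x • r = r • x
  rw [smul_eq_mul, smul_eq_mul, mul_comm]

theorem gorenstein_iff_socCyclic [IsLocalRing R] [IsArtinianRing R] :
    LocCoh.IsGorensteinLocalRing R ↔ SocCyclic R := by
  refine ⟨fun h => ?_, fun h => gorenstein_of_idlt (idlt_one_iff.2 (injective_of_socCyclic h))⟩
  obtain ⟨n, hn⟩ := h.exists_hasInjectiveDimensionLT
  have hm : maximalIdeal R ∈ associatedPrimes R R := by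
    obtain ⟨p, hp⟩ := associatedPrimes.nonempty R R
    haveI := hp.isPrime
    rwa [← IsLocalRing.eq_maximalIdeal (I := p) inferInstance]
  exact socCyclic_of_injective (idlt_one_iff.1 (idlt_one_of_depth_zero hm hn)) hm

theorem idlt_of_bijective {S : Type u} [CommRing S] [Algebra R S] (hbij : Function.Bijective (algebraMap R S)) :
    ∀ (n : ℕ) (X : Type u) [AddCommGroup X] [Module R X] [Module S X] [IsScalarTower R S X],
      IDLT S X (n + 1) → IDLT R X (n + 1) := by
  haveI : Module.Flat R S := Module.Flat.of_linearEquiv (LinearEquiv.ofBijective (Algebra.linearMap R S) hbij).symm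
  intro n
  induction n with
  | zero => intro X _ _ _ _ h; exact idlt_one_iff.2 (InjHullLib.injective_restrictScalars S (idlt_one_iff.1 h))
  | succ n ih =>
    intro X _ _ _ _ h
    obtain ⟨E, _, _, hE, ι, hι⟩ := exists_injective_embedding S X
    letI : Module R E := Module.compHom E (algebraMap R S)
    haveI : IsScalarTower R S E := IsScalarTower.of_algebraMap_smul fun _ _ => rfl
    have hQ := ih (E ⧸ LinearMap.range ι) (idlt_quotient_range ι hι h)
    have hE2 : IDLT R E (n + 1 + 1) :=
      idlt_mono (by omega) (idlt_one_iff.2 (InjHullLib.injective_restrictScalars S hE))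
    let ι' : X →ₗ[R] E := ι.restrictScalars R
    let π' : E →ₗ[R] E ⧸ LinearMap.range ι := (LinearMap.range ι).mkQ.restrictScalars R
    have hι' : Function.Injective ι' := hι
    have hπ' : Function.Surjective π' := Submodule.mkQ_surjective (LinearMap.range ι)
    have hex : Function.Exact ι' π' := LinearMap.exact_map_mkQ_range ι
    exact idlt_ses₁ ι' π' hι' hπ' hex hE2 hQ

/-- Gorenstein is invariant under ring isomorphisms. -/
theorem gorenstein_of_ringEquiv {S : Type u} [CommRing S] (e : R ≃+* S) (h : LocCoh.IsGorensteinLocalRing S) :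
    LocCoh.IsGorensteinLocalRing R := by
  haveI : IsLocalRing R := e.symm.isLocalRing
  haveI : IsNoetherianRing R := isNoetherianRing_of_ringEquiv S e.symm
  letI : Algebra R S := e.toRingHom.toAlgebra
  obtain ⟨n, hn⟩ := h.exists_hasInjectiveDimensionLT
  have h1 : IDLT R S (n + 1) := idlt_of_bijective e.bijective n S (idlt_mono (Nat.le_succ n) hn)
  exact gorenstein_of_idlt (idlt_of_equiv (LinearEquiv.ofBijective (Algebra.linearMap R S) e.bijective).symm h1)

theorem gorenstein_congr {S : Type u} [CommRing S] (e : R ≃+* S) :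
    LocCoh.IsGorensteinLocalRing R ↔ LocCoh.IsGorensteinLocalRing S :=
  ⟨gorenstein_of_ringEquiv e.symm, gorenstein_of_ringEquiv e⟩

end GorLib
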