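import Groth.Agent.GorLib.LCI
import Groth.Prelude.Def_Dual3
import Groth.Agent.S9501
import Groth.Agent.CatLib.Flat
import Groth.Agent.SweepSix.FlatCancel

/-! # Gorenstein schemes -/

set_option autoImplicit false

universe u

open CategoryTheory AlgebraicGeometry IsLocalRing

namespace GorLib

theorem gorensteinRing_sections {X : Scheme.{u}} (hX : Dual3.IsGorenstein X) (U : X.affineOpens) :
    LocCoh.IsGorensteinRing Γ(X, U.1) := by
  haveI := hX.1
  haveI : IsNoetherianRing Γ(X, U.1) := IsLocallyNoetherian.component_noetherian U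
  refine { isGorensteinLocalRing_localization := fun p hp => ?_ }
  let y : PrimeSpectrum Γ(X, U.1) := ⟨p, hp⟩
  have hy : U.2.fromSpec y ∈ U.1 := U.2.range_fromSpec.le ⟨y, rfl⟩
  letI : Algebra Γ(X, U.1) (X.presheaf.stalk (U.2.fromSpec y)) := TopCat.Presheaf.algebra_section_stalk X.presheaf ⟨_, hy⟩
  haveI : IsLocalization.AtPrime (X.presheaf.stalk (U.2.fromSpec y)) p := U.2.isLocalization_stalk' y hy
  exact gorenstein_of_ringEquiv (IsLocalization.algEquiv p.primeCompl (Localization.AtPrime p)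
    (X.presheaf.stalk (U.2.fromSpec y))).toRingEquiv (hX.2 _)

theorem gorenstein_stalk_of_sections {X : Scheme.{u}} (U : X.affineOpens) (hU : LocCoh.IsGorensteinRing Γ(X, U.1))
    {x : X} (hx : x ∈ U.1) : LocCoh.IsGorensteinLocalRing (X.presheaf.stalk x) := by
  letI : Algebra Γ(X, U.1) (X.presheaf.stalk x) := TopCat.Presheaf.algebra_section_stalk X.presheaf ⟨x, hx⟩
  haveI : IsLocalization.AtPrime (X.presheaf.stalk x) (U.2.primeIdealOf ⟨x, hx⟩).asIdeal := U.2.isLocalization_stalk ⟨x, hx⟩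
  exact gorenstein_of_ringEquiv (IsLocalization.algEquiv (U.2.primeIdealOf ⟨x, hx⟩).asIdeal.primeCompl
    (X.presheaf.stalk x) (Localization.AtPrime (U.2.primeIdealOf ⟨x, hx⟩).asIdeal)).toRingEquiv
    (hU.isGorensteinLocalRing_localization _)

theorem isGorenstein_of_cover {X : Scheme.{u}}
    (h : ∀ x : X, ∃ U : X.affineOpens, x ∈ U.1 ∧ LocCoh.IsGorensteinRing Γ(X, U.1)) : Dual3.IsGorenstein X := by
  choose U hx hU using h
  refine ⟨isLocallyNoetherian_of_affine_cover (S := U) (top_le_iff.1 fun x _ => ?_) fun x => ?_, fun x =>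
    gorenstein_stalk_of_sections (U x) (hU x) (hx x)⟩
  · exact TopologicalSpace.Opens.mem_iSup.2 ⟨x, hx x⟩
  · haveI := hU x; infer_instance

theorem gorenstein_fibre_stalk_iff {X S : Scheme.{u}} (f : X ⟶ S) (s : S) (y : f.fiber s) (x : X)
    (h : (f.fiberι s) y = x) :
    LocCoh.IsGorensteinLocalRing ((f.fiber s).presheaf.stalk y) ↔
      LocCoh.IsGorensteinLocalRing (X.presheaf.stalk x ⧸
        (maximalIdeal (S.presheaf.stalk (f x))).map (f.stalkMap x).hom) := by
  subst h
  obtain ⟨hsurj, hker⟩ := Groth.Agent.S9501.result f s y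
  exact gorenstein_congr ((RingHom.quotientKerEquivOfSurjective hsurj).symm.trans (Ideal.quotEquivOfEq hker))

theorem isGorensteinAt_iff {X S : Scheme.{u}} (f : X ⟶ S) (x : X) :
    Dual3.IsGorensteinAt f x ↔ (f.stalkMap x).hom.Flat ∧ LocCoh.IsGorensteinLocalRing (X.presheaf.stalk x ⧸
      (maximalIdeal (S.presheaf.stalk (f x))).map (f.stalkMap x).hom) :=
  and_congr_right fun _ => gorenstein_fibre_stalk_iff f (f x) (f.asFiber x) x (f.fiberι_asFiber x)

theorem isNoetherianRing_fibre {X S : Scheme.{u}} (f : X ⟶ S) (x : X) [IsLocallyNoetherian (f.fiber (f x))] :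
    IsNoetherianRing (X.presheaf.stalk x ⧸ (maximalIdeal (S.presheaf.stalk (f x))).map (f.stalkMap x).hom) := by
  have key : ∀ (s : S) (y : f.fiber s) (z : X), (f.fiberι s) y = z →
      IsNoetherianRing ((f.fiber s).presheaf.stalk y) →
      IsNoetherianRing (X.presheaf.stalk z ⧸ (maximalIdeal (S.presheaf.stalk (f z))).map (f.stalkMap z).hom) := by
    rintro s y z rfl hn
    obtain ⟨hsurj, hker⟩ := Groth.Agent.S9501.result f s y
    exact isNoetherianRing_of_ringEquiv _
      ((RingHom.quotientKerEquivOfSurjective hsurj).symm.trans (Ideal.quotEquivOfEq hker))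
  exact key (f x) (f.asFiber x) x (f.fiberι_asFiber x) inferInstance

/-- Gorenstein fibres of a composite of local homomorphisms with flat second factor. -/
theorem gorenstein_fibre_comp {A B C : Type u} [CommRing A] [CommRing B] [CommRing C] [IsLocalRing A]
    [IsLocalRing B] [IsLocalRing C] (f : A →+* B) [IsLocalHom f] (g : B →+* C) [IsLocalHom g] (hg : g.Flat)
    (hB : IsNoetherianRing (B ⧸ (maximalIdeal A).map f))
    (hC : IsNoetherianRing (C ⧸ (maximalIdeal A).map (g.comp f))) :
    LocCoh.IsGorensteinLocalRing (C ⧸ (maximalIdeal A).map (g.comp f)) ↔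
      (LocCoh.IsGorensteinLocalRing (B ⧸ (maximalIdeal A).map f) ∧
        LocCoh.IsGorensteinLocalRing (C ⧸ (maximalIdeal B).map g)) := by
  letI := g.toAlgebra
  haveI : Module.Flat B C := hg
  haveI : IsLocalHom (algebraMap B C) := ‹IsLocalHom g›
  let J : Ideal B := (maximalIdeal A).map f
  have hJn : J ≤ maximalIdeal B := Ideal.map_le_iff_le_comap.2 fun a ha => by
    rw [Ideal.mem_comap, mem_maximalIdeal, mem_nonunits_iff, isUnit_map_iff]
    exact ha
  have hmap : J.map (algebraMap B C) = (maximalIdeal A).map (g.comp f) := Ideal.map_map f g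
  have hJ : J ≠ ⊤ := ne_top_of_le_ne_top (maximalIdeal.isMaximal B).ne_top hJn
  have hJ' : J.map (algebraMap B C) ≠ ⊤ :=
    ne_top_of_le_ne_top (maximalIdeal.isMaximal C).ne_top
      ((Ideal.map_mono hJn).trans (IsLocalRing.map_maximalIdeal_le _))
  haveI : IsLocalRing (B ⧸ J) := isLocalRing_quotient hJ
  haveI : IsLocalRing (C ⧸ J.map (algebraMap B C)) := isLocalRing_quotient hJ'
  haveI : IsNoetherianRing (B ⧸ J) := hB
  haveI : IsNoetherianRing (C ⧸ J.map (algebraMap B C)) :=
    isNoetherianRing_of_ringEquiv _ (Ideal.quotEquivOfEq hmap.symm)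
  haveI : Module.Flat (B ⧸ J) (C ⧸ J.map (algebraMap B C)) := CatLib.flat_quotient J
  haveI : IsLocalHom (algebraMap (B ⧸ J) (C ⧸ J.map (algebraMap B C))) := ⟨fun x hx => by
    obtain ⟨b, rfl⟩ := Ideal.Quotient.mk_surjective x
    by_contra hb
    refine not_isUnit_mk hJ' (x := algebraMap B C b) ?_ hx
    rw [mem_maximalIdeal, mem_nonunits_iff, isUnit_map_iff]
    exact fun h => hb (h.map _)⟩
  rw [gorenstein_congr (Ideal.quotEquivOfEq hmap.symm), gorenstein_flat_iff (B ⧸ J) (C ⧸ J.map (algebraMap B C))]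
  refine and_congr_right fun _ => gorenstein_congr ?_
  refine (Ideal.quotEquivOfEq ?_).trans (DoubleQuot.quotQuotEquivQuotOfLE (Ideal.map_mono hJn))
  rw [maximalIdeal_quotient]
  exact (Ideal.map_map _ _).trans ((congrArg (fun φ => Ideal.map φ (maximalIdeal B)) (RingHom.ext fun _ => rfl)).trans (Ideal.map_map g (Ideal.Quotient.mk _)).symm)

end GorLib
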