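import Groth.Agent.GorLib.FieldExt
import Groth.Agent.GorLib.Scheme
import Groth.Agent.S0342
import Mathlib.RingTheory.LocalRing.ResidueField.Fiber
import Groth.Prelude.Def_Found

/-! # Gorenstein rings: regular rings and fibres -/

set_option autoImplicit false

universe u

open TensorProduct IsLocalRing

namespace GorLib

theorem gorensteinRing_of_isRegularRing {R : Type u} [CommRing R] [IsRegularRing R] :
    LocCoh.IsGorensteinRing R :=
  { isGorensteinLocalRing_localization := fun p _ => Groth.Agent.S0342.result (Localization.AtPrime p) }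

theorem gorensteinRing_of_field {K : Type u} [Field K] : LocCoh.IsGorensteinRing K := by
  refine { isGorensteinLocalRing_localization := fun p _ => gorenstein_of_maximalIdeal_eq_bot ?_ }
  have hp : p = ⊥ := (Ideal.eq_bot_or_top p).resolve_right (Ideal.IsPrime.ne_top ‹_›)
  subst hp
  rw [← Localization.AtPrime.map_eq_maximalIdeal, Ideal.map_bot]

theorem gorensteinRing_of_isGeometricallyRegular {k S : Type u} [Field k] [CommRing S] [Algebra k S]
    (h : CAlg.IsGeometricallyRegular k S) : LocCoh.IsGorensteinRing S := by
  haveI := h k inferInstance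
  exact gorensteinRing_of_ringEquiv (Algebra.TensorProduct.lid k S).symm.toRingEquiv gorensteinRing_of_isRegularRing

variable {R S : Type u} [CommRing R] [CommRing S] [Algebra R S]

/-- The local rings of the fibre ring, seen on `S`. -/
theorem gorenstein_fibre_loc {p : Ideal R} [p.IsPrime] (hF : LocCoh.IsGorensteinRing (p.Fiber S))
    (r : Ideal S) [r.IsPrime] (hr : r.comap (algebraMap R S) = p) :
    LocCoh.IsGorensteinLocalRing (Localization.AtPrime r ⧸ p.map (algebraMap R (Localization.AtPrime r))) := by
  obtain ⟨Q, hQ⟩ : ∃ Q : PrimeSpectrum (p.Fiber S), Q.asIdeal.comap Algebra.TensorProduct.includeRight = r :=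
    ⟨PrimeSpectrum.preimageEquivFiber R S ⟨p, inferInstance⟩ ⟨⟨r, inferInstance⟩, PrimeSpectrum.ext hr⟩,
      congrArg (fun x => PrimeSpectrum.asIdeal x.1)
        ((PrimeSpectrum.preimageEquivFiber R S ⟨p, inferInstance⟩).symm_apply_apply ⟨⟨r, inferInstance⟩, PrimeSpectrum.ext hr⟩)⟩
  subst hQ
  exact gorenstein_of_ringEquiv ((Ideal.quotEquivOfEq (by rw [Ideal.map_map, ← IsScalarTower.algebraMap_eq])).trans
    (Ideal.Fiber.algEquivAux₂ p Q.asIdeal).symm.toRingEquiv) (hF.isGorensteinLocalRing_localization Q.asIdeal)

/-- A noetherian fibre ring is Gorenstein when its local rings, seen on `S`, are. -/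
theorem gorensteinRing_fiber {p : Ideal R} [p.IsPrime] [IsNoetherianRing (p.Fiber S)]
    (h : ∀ (r : Ideal S) [r.IsPrime], r.comap (algebraMap R S) = p →
      LocCoh.IsGorensteinLocalRing (Localization.AtPrime r ⧸ p.map (algebraMap R (Localization.AtPrime r)))) :
    LocCoh.IsGorensteinRing (p.Fiber S) := by
  refine { isGorensteinLocalRing_localization := fun Q _ => ?_ }
  have hr : (Q.comap Algebra.TensorProduct.includeRight).comap (algebraMap R S) = p :=
    congrArg PrimeSpectrum.asIdeal ((PrimeSpectrum.preimageEquivFiber R S ⟨p, inferInstance⟩).symm ⟨Q, inferInstance⟩).2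
  exact gorenstein_of_ringEquiv ((Ideal.Fiber.algEquivAux₂ p Q).toRingEquiv.trans
    (Ideal.quotEquivOfEq (by rw [Ideal.map_map, ← IsScalarTower.algebraMap_eq]))) (h _ hr)

theorem map_maximalIdeal_localRingHom (p : Ideal R) [p.IsPrime] (r : Ideal S) [r.IsPrime]
    (h : p = r.comap (algebraMap R S)) :
    (maximalIdeal (Localization.AtPrime p)).map (Localization.localRingHom p r (algebraMap R S) h) =
      p.map (algebraMap R (Localization.AtPrime r)) := by
  rw [← Localization.AtPrime.map_eq_maximalIdeal, Ideal.map_map]
  congr 1
  refine RingHom.ext fun x => ?_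
  rw [RingHom.comp_apply, Localization.localRingHom_to_map]
  exact (IsScalarTower.algebraMap_apply R S (Localization.AtPrime r) x).symm

theorem gorenstein_localization_flat_iff [IsNoetherianRing R] [IsNoetherianRing S] [Module.Flat R S]
    (r : Ideal S) [r.IsPrime] :
    LocCoh.IsGorensteinLocalRing (Localization.AtPrime r) ↔
      (LocCoh.IsGorensteinLocalRing (Localization.AtPrime (r.comap (algebraMap R S))) ∧
        LocCoh.IsGorensteinLocalRing (Localization.AtPrime r ⧸
          (r.comap (algebraMap R S)).map (algebraMap R (Localization.AtPrime r)))) := by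
  let p := r.comap (algebraMap R S)
  haveI : IsNoetherianRing (Localization.AtPrime p) := IsLocalization.isNoetherianRing p.primeCompl _ inferInstance
  haveI : IsNoetherianRing (Localization.AtPrime r) := IsLocalization.isNoetherianRing r.primeCompl _ inferInstance
  letI : Algebra (Localization.AtPrime p) (Localization.AtPrime r) :=
    (Localization.localRingHom p r (algebraMap R S) rfl).toAlgebra
  haveI : IsLocalHom (algebraMap (Localization.AtPrime p) (Localization.AtPrime r)) :=
    Localization.isLocalHom_localRingHom p r (algebraMap R S) rfl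
  haveI : Module.Flat (Localization.AtPrime p) (Localization.AtPrime r) :=
    RingHom.Flat.localRingHom (RingHom.flat_algebraMap_iff.2 inferInstance) r p rfl
  rw [gorenstein_flat_iff (Localization.AtPrime p) (Localization.AtPrime r)]
  exact and_congr_right fun _ => gorenstein_congr (Ideal.quotEquivOfEq (map_maximalIdeal_localRingHom p r rfl))

theorem gorenstein_localization_iff_of_fibre [IsNoetherianRing R] [IsNoetherianRing S] [Module.Flat R S]
    (r : Ideal S) [r.IsPrime] (hF : LocCoh.IsGorensteinRing ((r.comap (algebraMap R S)).Fiber S)) :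
    LocCoh.IsGorensteinLocalRing (Localization.AtPrime (r.comap (algebraMap R S))) ↔
      LocCoh.IsGorensteinLocalRing (Localization.AtPrime r) := by
  rw [gorenstein_localization_flat_iff (R := R) r]
  exact ⟨fun h => ⟨h, gorenstein_fibre_loc hF r rfl⟩, fun h => h.1⟩

end GorLib
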