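import Groth.Agent.GorLib.Fibres
import Groth.Agent.S1760
import Groth.Agent.S1803
import Groth.Agent.SweepSix.FlatCancel
import Mathlib.RingTheory.TensorProduct.IsBaseChangePi

/-! # Base change of Gorenstein fibres -/

set_option autoImplicit false

universe u

open TensorProduct IsLocalRing

namespace GorLib

theorem gorenstein_localization_comap {A B : Type u} [CommRing A] [CommRing B] (e : A ≃+* B) (P : Ideal B) [P.IsPrime] :
    LocCoh.IsGorensteinLocalRing (Localization.AtPrime P) ↔
      LocCoh.IsGorensteinLocalRing (Localization.AtPrime (P.comap e)) := by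
  refine (gorenstein_congr ?_).symm
  refine IsLocalization.ringEquivOfRingEquiv (M := (P.comap e).primeCompl) (T := P.primeCompl)
    (Localization.AtPrime (P.comap e)) (Localization.AtPrime P) e ?_
  ext x
  constructor
  · rintro ⟨y, hy, rfl⟩
    exact hy
  · intro hx
    exact ⟨e.symm x, fun h => hx (e.apply_symm_apply x ▸ h), e.apply_symm_apply x⟩

/-- Local rings of `C ⊗ₖ k'` for finitely generated `k'/k`. -/
theorem gorenstein_loc_tensor_field {k k' : Type u} [Field k] [Field k'] [Algebra k k']
    (hfg : ∃ s : Finset k', IntermediateField.adjoin k (s : Set k') = ⊤) (C : Type u) [CommRing C] [Algebra k C]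
    (Q : Ideal (C ⊗[k] k')) [Q.IsPrime] (q : Ideal C) [q.IsPrime] (hq : q = Q.comap (algebraMap C (C ⊗[k] k')))
    [IsNoetherianRing (Localization.AtPrime q)] :
    LocCoh.IsGorensteinLocalRing (Localization.AtPrime Q) ↔ LocCoh.IsGorensteinLocalRing (Localization.AtPrime q) := by
  let Cq := Localization.AtPrime q
  let T := C ⊗[k] k'
  let ι : T →+* Cq ⊗[k] k' :=
    (Algebra.TensorProduct.map (IsScalarTower.toAlgHom k C Cq) (AlgHom.id k k')).toRingHom
  letI : Algebra T (Cq ⊗[k] k') := ι.toAlgebra
  haveI : IsLocalization (Algebra.algebraMapSubmonoid T q.primeCompl) (Cq ⊗[k] k') := by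
    let e : (T ⊗[C] Cq) ≃+* (Cq ⊗[k] k') :=
      (Algebra.TensorProduct.comm C T Cq).toRingEquiv.trans
        (Algebra.TensorProduct.cancelBaseChange k C C Cq k').toRingEquiv
    refine IsLocalization.isLocalization_of_algEquiv (S := T ⊗[C] Cq) _ { e with commutes' := ?_ }
    intro t
    show e (t ⊗ₜ 1) = ι t
    induction t using TensorProduct.induction_on with
    | zero => simp
    | tmul c b =>
      show Algebra.TensorProduct.cancelBaseChange k C C Cq k' ((1 : Cq) ⊗ₜ[C] (c ⊗ₜ[k] b)) = _
      rw [Algebra.TensorProduct.cancelBaseChange_tmul, Algebra.smul_def, mul_one]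
      rfl
    | add x y hx hy => rw [TensorProduct.add_tmul, map_add, map_add, hx, hy]
  have hdisj : Disjoint (Algebra.algebraMapSubmonoid T q.primeCompl : Set T) Q := by
    rw [Set.disjoint_left]
    rintro _ ⟨c, hc, rfl⟩ hcQ
    exact hc (hq ▸ hcQ)
  let Q' := Q.map (algebraMap T (Cq ⊗[k] k'))
  haveI : Q'.IsPrime := IsLocalization.isPrime_of_isPrime_disjoint _ _ Q ‹_› hdisj
  have hQ' : Q'.comap (algebraMap T (Cq ⊗[k] k')) = Q :=
    IsLocalization.comap_map_of_isPrime_disjoint _ _ ‹_› hdisj
  have hover : Q'.comap (algebraMap Cq (Cq ⊗[k] k')) = maximalIdeal Cq := by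
    refine le_antisymm (le_maximalIdeal ((Ideal.IsPrime.comap (algebraMap Cq (Cq ⊗[k] k'))).ne_top)) ?_
    rw [← Localization.AtPrime.map_eq_maximalIdeal, Ideal.map_le_iff_le_comap]
    intro c hc
    rw [Ideal.mem_comap, Ideal.mem_comap]
    have h1 : algebraMap Cq (Cq ⊗[k] k') (algebraMap C Cq c) = algebraMap T (Cq ⊗[k] k') (c ⊗ₜ 1) := rfl
    rw [h1]
    exact Ideal.mem_map_of_mem _ (hq.le hc)
  rw [Groth.Agent.S1760.result k k' hfg Cq ⟨Q', inferInstance⟩ hover]
  haveI : IsLocalization.AtPrime (Localization.AtPrime Q') Q := by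
    have h1 : IsLocalization.AtPrime (Localization.AtPrime Q') (Q'.comap (algebraMap T (Cq ⊗[k] k'))) :=
      IsLocalization.isLocalization_isLocalization_atPrime_isLocalization
        (Algebra.algebraMapSubmonoid T q.primeCompl) _ Q'
    simpa only [hQ'] using h1
  exact gorenstein_congr (IsLocalization.algEquiv Q.primeCompl (Localization.AtPrime Q) (Localization.AtPrime Q')).toRingEquiv

section Square

variable {R S R' S' : Type u} [CommRing R] [CommRing S] [CommRing R'] [CommRing S'] [Algebra R S] [Algebra R R']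
  [Algebra R' S'] [Algebra S S'] [Algebra R S'] [IsScalarTower R R' S'] [IsScalarTower R S S'] [Algebra.IsPushout R R' S S']

/-- Flatness at a prime is stable under base change. -/
theorem flat_baseChange_localization (r' : Ideal S') [r'.IsPrime] (r : Ideal S) [r.IsPrime]
    (hr : r = r'.comap (algebraMap S S')) [Module.Flat R (Localization.AtPrime r)] :
    Module.Flat R' (Localization.AtPrime r') := by
  let Sr := Localization.AtPrime r
  let N := S' ⊗[S] Sr
  let D := Localization.AtPrime r'
  haveI : Module.Flat R' N :=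
    Module.Flat.of_linearEquiv (Algebra.IsPushout.cancelBaseChange R R' S S' Sr)
  let ψ : N →ₐ[S'] D := Algebra.TensorProduct.lift (Algebra.ofId S' D)
    (IsLocalization.liftAlgHom (M := r.primeCompl) (S := Sr) (f := Algebra.ofId S D) (by
      rintro ⟨c, hc⟩
      show IsUnit (algebraMap S D c)
      rw [IsScalarTower.algebraMap_apply S S' D]
      exact IsLocalization.map_units D (⟨algebraMap S S' c, fun h => hc (hr ▸ h)⟩ : r'.primeCompl)))
    fun _ _ => Commute.all _ _
  letI : Algebra N D := ψ.toRingHom.toAlgebra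
  haveI : IsScalarTower S' N D := IsScalarTower.of_algebraMap_eq fun x => (ψ.commutes x).symm
  haveI : IsLocalization (r'.primeCompl.map (algebraMap S' N)) D :=
    IsLocalization.isLocalization_of_submonoid_le N D (Algebra.algebraMapSubmonoid S' r.primeCompl) r'.primeCompl
      (by rintro _ ⟨c, hc, rfl⟩; exact fun h => hc (hr ▸ h))
  haveI : Module.Flat N D := IsLocalization.flat D (r'.primeCompl.map (algebraMap S' N))
  haveI : IsScalarTower R' N D := IsScalarTower.of_algebraMap_eq fun x => by
    show algebraMap R' D x = ψ (algebraMap S' N (algebraMap R' S' x))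
    rw [ψ.commutes]
    exact IsScalarTower.algebraMap_apply R' S' D x
  exact Module.Flat.trans R' N D

/-- The fibre of a base change. -/
theorem exists_fibre_comparison (p : Ideal R) [p.IsPrime] (p' : Ideal R') [p'.IsPrime]
    (hp : p = p'.comap (algebraMap R R')) :
    letI := (Ideal.ResidueField.map p p' (algebraMap R R') hp).toAlgebra
    ∃ Φ : (p.Fiber S) ⊗[p.ResidueField] p'.ResidueField ≃+* p'.Fiber S',
      ∀ s : S, Φ (((1 : p.ResidueField) ⊗ₜ[R] s) ⊗ₜ 1) = (1 : p'.ResidueField) ⊗ₜ[R'] algebraMap S S' s := by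
  letI := (Ideal.ResidueField.map p p' (algebraMap R R') hp).toAlgebra
  haveI : IsScalarTower R p.ResidueField p'.ResidueField := IsScalarTower.of_algebraMap_eq fun a => by
    show _ = Ideal.ResidueField.map p p' (algebraMap R R') hp (algebraMap R p.ResidueField a)
    rw [Ideal.ResidueField.map_algebraMap, IsScalarTower.algebraMap_apply R R' p'.ResidueField]
  let e0 : R' ⊗[R] S ≃ₐ[R'] S' := Algebra.IsPushout.equiv R R' S S'
  let Φ : (p.Fiber S) ⊗[p.ResidueField] p'.ResidueField ≃+* p'.Fiber S' :=
    (Algebra.TensorProduct.comm p.ResidueField (p.Fiber S) p'.ResidueField).toRingEquiv.trans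
      ((Algebra.TensorProduct.cancelBaseChange R p.ResidueField p.ResidueField p'.ResidueField S).toRingEquiv.trans
        ((Algebra.TensorProduct.cancelBaseChange R R' R' p'.ResidueField S).symm.toRingEquiv.trans
          (Algebra.TensorProduct.congr (AlgEquiv.refl : p'.ResidueField ≃ₐ[R'] p'.ResidueField) e0).toRingEquiv))
  refine ⟨Φ, fun s => ?_⟩
  simp [Φ, e0, Algebra.IsPushout.equiv_tmul]

theorem gorenstein_fibre_loc_iff (p : Ideal R) [p.IsPrime] (q : Ideal (p.Fiber S)) [q.IsPrime] (r : Ideal S) [r.IsPrime]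
    (hr : q.comap Algebra.TensorProduct.includeRight = r) :
    (LocCoh.IsGorensteinLocalRing (Localization.AtPrime q) ↔
      LocCoh.IsGorensteinLocalRing (Localization.AtPrime r ⧸ p.map (algebraMap R (Localization.AtPrime r)))) ∧
    (IsNoetherianRing (Localization.AtPrime r ⧸ p.map (algebraMap R (Localization.AtPrime r))) →
      IsNoetherianRing (Localization.AtPrime q)) := by
  subst hr
  let e := (Ideal.Fiber.algEquivAux₂ p q).toRingEquiv.trans
    (Ideal.quotEquivOfEq (by rw [Ideal.map_map, ← IsScalarTower.algebraMap_eq]))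
  exact ⟨gorenstein_congr e, fun h => isNoetherianRing_of_ringEquiv _ e.symm⟩

variable (r' : Ideal S') [r'.IsPrime] (r : Ideal S) [r.IsPrime] (p' : Ideal R') [p'.IsPrime] (p : Ideal R) [p.IsPrime]

set_option backward.isDefEq.respectTransparency false in
/-- Gorenstein fibres and base change of finite type. -/
theorem gorenstein_fibre_baseChange_iff (hr : r = r'.comap (algebraMap S S')) (hp' : p' = r'.comap (algebraMap R' S'))
    (hp : p = p'.comap (algebraMap R R'))
    (h : (Algebra.EssFiniteType R R' ∧
      IsNoetherianRing (Localization.AtPrime r ⧸ p.map (algebraMap R (Localization.AtPrime r)))) ∨ Algebra.FiniteType R S) :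
    LocCoh.IsGorensteinLocalRing (Localization.AtPrime r' ⧸ p'.map (algebraMap R' (Localization.AtPrime r'))) ↔
      LocCoh.IsGorensteinLocalRing (Localization.AtPrime r ⧸ p.map (algebraMap R (Localization.AtPrime r))) := by
  letI := (Ideal.ResidueField.map p p' (algebraMap R R') hp).toAlgebra
  haveI : IsScalarTower R p.ResidueField p'.ResidueField := IsScalarTower.of_algebraMap_eq fun a => by
    show _ = Ideal.ResidueField.map p p' (algebraMap R R') hp (algebraMap R p.ResidueField a)
    rw [Ideal.ResidueField.map_algebraMap, IsScalarTower.algebraMap_apply R R' p'.ResidueField]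
  obtain ⟨Φ, hΦ⟩ := exists_fibre_comparison (S := S) (S' := S') p p' hp
  obtain ⟨Q', hQ'⟩ : ∃ Q' : PrimeSpectrum (p'.Fiber S'), Q'.asIdeal.comap Algebra.TensorProduct.includeRight = r' :=
    ⟨PrimeSpectrum.preimageEquivFiber R' S' ⟨p', inferInstance⟩ ⟨⟨r', inferInstance⟩, PrimeSpectrum.ext hp'.symm⟩,
      congrArg (fun x => PrimeSpectrum.asIdeal x.1) ((PrimeSpectrum.preimageEquivFiber R' S' ⟨p', inferInstance⟩).symm_apply_apply
        ⟨⟨r', inferInstance⟩, PrimeSpectrum.ext hp'.symm⟩)⟩
  let Q : Ideal ((p.Fiber S) ⊗[p.ResidueField] p'.ResidueField) := Q'.asIdeal.comap Φ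
  let q := Q.comap (algebraMap (p.Fiber S) ((p.Fiber S) ⊗[p.ResidueField] p'.ResidueField))
  have hq : q.comap Algebra.TensorProduct.includeRight = r := by
    ext s
    rw [hr, ← hQ']
    show Φ (((1 : p.ResidueField) ⊗ₜ[R] s) ⊗ₜ 1) ∈ Q'.asIdeal ↔ (1 : p'.ResidueField) ⊗ₜ[R'] algebraMap S S' s ∈ Q'.asIdeal
    rw [hΦ]
  rw [← (gorenstein_fibre_loc_iff p q r hq).1, ← (gorenstein_fibre_loc_iff p' Q'.asIdeal r' hQ').1]
  rw [gorenstein_localization_comap (A := (p.Fiber S) ⊗[p.ResidueField] p'.ResidueField) (B := p'.Fiber S') Φ Q'.asIdeal]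
  rcases h with ⟨hess, hnoe⟩ | hft
  · haveI := hess
    haveI := (gorenstein_fibre_loc_iff p q r hq).2 hnoe
    haveI : Algebra.EssFiniteType R' p'.ResidueField := inferInstance
    haveI : Algebra.EssFiniteType R p'.ResidueField := Algebra.EssFiniteType.comp R R' p'.ResidueField
    haveI : Algebra.EssFiniteType p.ResidueField p'.ResidueField := Algebra.EssFiniteType.of_comp R p.ResidueField p'.ResidueField
    exact gorenstein_loc_tensor_field (IntermediateField.fg_top_iff.2 inferInstance) (p.Fiber S) Q q rfl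
  · haveI := hft
    exact (Groth.Agent.S1803.result p.ResidueField p'.ResidueField (p.Fiber S) ⟨Q, inferInstance⟩).symm

end Square

end GorLib
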