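import Groth.Agent.GorLib.Chart
import Groth.Agent.GorLib.BaseChange
import Groth.Agent.RpushLib.HBase

/-! # Base change of Gorenstein morphisms -/

set_option autoImplicit false

universe u

open CategoryTheory AlgebraicGeometry IsLocalRing

namespace GorLib

theorem gorensteinAt_baseChange {X Y X' Y' : Scheme.{u}} (f : X ⟶ Y) (g : Y' ⟶ Y) (f' : X' ⟶ Y') (g' : X' ⟶ X)
    (hsq : IsPullback g' f' f g) (x' : X')
    (h : (LocallyOfFiniteType g ∧ IsLocallyNoetherian (f.fiber (f (g' x')))) ∨ LocallyOfFiniteType f) :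
    (Dual3.IsGorensteinAt f (g' x') → Dual3.IsGorensteinAt f' x') ∧
      ((f.stalkMap (g' x')).hom.Flat → Dual3.IsGorensteinAt f' x' → Dual3.IsGorensteinAt f (g' x')) ∧
      ((g.stalkMap (f' x')).hom.Flat → Dual3.IsGorensteinAt f' x' → Dual3.IsGorensteinAt f (g' x')) := by
  have hw : g (f' x') = f (g' x') := by
    have := congrArg (fun φ : X' ⟶ Y => φ x') hsq.w
    simpa using this.symm
  obtain ⟨_, ⟨V, hV, rfl⟩, hyV, -⟩ :=
    Y.isBasis_affineOpens.exists_subset_of_mem_open (Set.mem_univ (f (g' x'))) isOpen_univ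
  obtain ⟨_, ⟨U, hU, rfl⟩, hxU, hUV⟩ :=
    X.isBasis_affineOpens.exists_subset_of_mem_open hyV (V.2.preimage f.continuous)
  obtain ⟨_, ⟨V', hV', rfl⟩, hyV', hV'V⟩ :=
    Y'.isBasis_affineOpens.exists_subset_of_mem_open (show g (f' x') ∈ (V : Set Y) by rw [hw]; exact hyV) (V.2.preimage g.continuous)
  have hUV : U ≤ f ⁻¹ᵁ V := hUV
  have hV'V : V' ≤ g ⁻¹ᵁ V := hV'V
  let U' := g' ⁻¹ᵁ U ⊓ f' ⁻¹ᵁ V'
  have hU' : IsAffineOpen U' := RpushLib.isAffineOpen_fibre hsq hV hV' hV'V hU hUV
  have hxU' : x' ∈ U' := ⟨hxU, hyV'⟩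
  have hpo := (RpushLib.isPushout_sections hsq hV hV' hV'V hU hUV).flip
  letI := (f.appLE V U hUV).hom.toAlgebra
  letI := (g.appLE V V' hV'V).hom.toAlgebra
  letI : Algebra Γ(Y', V') Γ(X', U') := (f'.appLE V' U' inf_le_right).hom.toAlgebra
  letI : Algebra Γ(X, U) Γ(X', U') := (g'.appLE U U' inf_le_left).hom.toAlgebra
  letI : Algebra Γ(Y, V) Γ(X', U') := ((f.appLE V U hUV) ≫ (g'.appLE U U' inf_le_left)).hom.toAlgebra
  haveI : IsScalarTower Γ(Y, V) Γ(X, U) Γ(X', U') := IsScalarTower.of_algebraMap_eq fun _ => rfl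
  haveI : IsScalarTower Γ(Y, V) Γ(Y', V') Γ(X', U') := IsScalarTower.of_algebraMap_eq fun a =>
    (ConcreteCategory.congr_hom hpo.w a).symm
  haveI : Algebra.IsPushout Γ(Y, V) Γ(Y', V') Γ(X, U) Γ(X', U') := CommRingCat.isPushout_iff_isPushout.1 hpo
  let r' := (hU'.primeIdealOf ⟨x', hxU'⟩).asIdeal
  let r := r'.comap (algebraMap Γ(X, U) Γ(X', U'))
  let p' := r'.comap (algebraMap Γ(Y', V') Γ(X', U'))
  let p := p'.comap (algebraMap Γ(Y, V) Γ(Y', V'))
  have hr : r = (hU.primeIdealOf ⟨g' x', hxU⟩).asIdeal :=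
    congrArg PrimeSpectrum.asIdeal (IsAffineOpen.comap_primeIdealOf_appLE (f := g') U hU U' hU' inf_le_left hxU')
  have hp : p = r.comap (algebraMap Γ(Y, V) Γ(X, U)) := by
    show (r'.comap _).comap _ = (r'.comap _).comap _
    rw [Ideal.comap_comap, Ideal.comap_comap, ← IsScalarTower.algebraMap_eq, ← IsScalarTower.algebraMap_eq]
  have hp'V : p' = (hV'.primeIdealOf ⟨f' x', hyV'⟩).asIdeal :=
    congrArg PrimeSpectrum.asIdeal (IsAffineOpen.comap_primeIdealOf_appLE (f := f') V' hV' U' hU' inf_le_right hxU')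
  obtain ⟨hflat, hgor, hnoe⟩ := isGorensteinAt_chart f hV hU hUV rfl (g' x') hxU p r hr hp
  obtain ⟨hflat', hgor', -⟩ := isGorensteinAt_chart f' hV' hU' inf_le_right rfl x' hxU' p' r' rfl rfl
  obtain ⟨hflatg, -, -⟩ := isGorensteinAt_chart g hV hV' hV'V rfl (f' x') hyV' p p' hp'V rfl
  rw [isGorensteinAt_iff, isGorensteinAt_iff, hflat, hgor, hflat', hgor', hflatg]
  have key := gorenstein_fibre_baseChange_iff (R := Γ(Y, V)) (S := Γ(X, U)) (R' := Γ(Y', V')) (S' := Γ(X', U'))
    r' r p' p rfl rfl rfl (by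
      rcases h with ⟨hg, hf⟩ | hf
      · haveI := hf
        haveI : Algebra.FiniteType Γ(Y, V) Γ(Y', V') := g.finiteType_appLE hV hV' hV'V
        exact Or.inl ⟨inferInstance, hnoe.1 (isNoetherianRing_fibre f (g' x'))⟩
      · exact Or.inr (f.finiteType_appLE hV hU hUV))
  -- flatness of localRingHom versus flatness over the base
  have flat_iff : ∀ {A B : Type u} [CommRing A] [CommRing B] [Algebra A B] (a : Ideal A) [a.IsPrime]
      (b : Ideal B) [b.IsPrime] (hab : a = b.comap (algebraMap A B)),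
      (Localization.localRingHom a b (algebraMap A B) hab).Flat ↔ Module.Flat A (Localization.AtPrime b) := by
    intro A B _ _ _ a _ b _ hab
    letI := (Localization.localRingHom a b (algebraMap A B) hab).toAlgebra
    haveI : IsScalarTower A (Localization.AtPrime a) (Localization.AtPrime b) :=
      IsScalarTower.of_algebraMap_eq fun x => by
        show algebraMap A (Localization.AtPrime b) x = Localization.localRingHom a b (algebraMap A B) hab (algebraMap A _ x)
        rw [Localization.localRingHom_to_map, IsScalarTower.algebraMap_apply A B (Localization.AtPrime b)]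
    exact Module.flat_iff_of_isLocalization (Localization.AtPrime a) a.primeCompl _
  rw [key, flat_iff, flat_iff, flat_iff]
  refine ⟨fun hf => ⟨?_, hf.2⟩, fun hf hf' => ⟨hf, hf'.2⟩, fun hg hf' => ⟨?_, hf'.2⟩⟩
  · haveI := hf.1
    exact flat_baseChange_localization (R := Γ(Y, V)) (S := Γ(X, U)) r' r rfl
  · haveI := hg
    haveI := hf'.1
    haveI : Algebra.IsPushout Γ(Y, V) Γ(X, U) Γ(Y', V') Γ(X', U') := ‹Algebra.IsPushout Γ(Y, V) Γ(Y', V') Γ(X, U) Γ(X', U')›.symm
    haveI hD : Module.Flat Γ(X, U) (Localization.AtPrime r') :=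
      flat_baseChange_localization (R := Γ(Y, V)) (S := Γ(Y', V')) (R' := Γ(X, U)) r' p' rfl
    have hDR : Module.Flat Γ(Y, V) (Localization.AtPrime r') := by
      haveI := (flat_iff p' r' rfl).2 hf'.1
      letI := (Localization.localRingHom p' r' (algebraMap Γ(Y', V') Γ(X', U')) rfl).toAlgebra
      haveI : IsScalarTower Γ(Y, V) (Localization.AtPrime p') (Localization.AtPrime r') :=
        IsScalarTower.of_algebraMap_eq fun x => by
          show _ = Localization.localRingHom p' r' (algebraMap Γ(Y', V') Γ(X', U')) rfl (algebraMap Γ(Y, V) _ x)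
          rw [IsScalarTower.algebraMap_apply Γ(Y, V) Γ(Y', V') (Localization.AtPrime p'), Localization.localRingHom_to_map,
            ← IsScalarTower.algebraMap_apply Γ(Y, V) Γ(Y', V') Γ(X', U'), ← IsScalarTower.algebraMap_apply]
      haveI : Module.Flat (Localization.AtPrime p') (Localization.AtPrime r') := (flat_iff p' r' rfl).2 hf'.1
      exact Module.Flat.trans Γ(Y, V) (Localization.AtPrime p') (Localization.AtPrime r')
    let σ := Localization.localRingHom r r' (algebraMap Γ(X, U) Γ(X', U')) rfl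
    haveI : IsLocalHom σ := Localization.isLocalHom_localRingHom r r' _ rfl
    have hcomp : (σ.comp (algebraMap Γ(Y, V) (Localization.AtPrime r))) = algebraMap Γ(Y, V) (Localization.AtPrime r') := by
      ext x
      rw [RingHom.comp_apply, IsScalarTower.algebraMap_apply Γ(Y, V) Γ(X, U) (Localization.AtPrime r)]
      show σ _ = _
      rw [Localization.localRingHom_to_map, ← IsScalarTower.algebraMap_apply Γ(Y, V) Γ(X, U) Γ(X', U'),
        ← IsScalarTower.algebraMap_apply]
    exact RingHom.flat_algebraMap_iff.1 (SweepSix.flat_of_comp (algebraMap Γ(Y, V) (Localization.AtPrime r)) σ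
      ((flat_iff r r' rfl).2 hD) (by rw [hcomp]; exact RingHom.flat_algebraMap_iff.2 hDR))

end GorLib
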