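import Groth.Agent.GorLib.FlatLocal
import Mathlib.RingTheory.Flat.Localization
import Mathlib.RingTheory.Polynomial.Basic
import Mathlib.RingTheory.LocalRing.ResidueField.Basic
import Mathlib.Algebra.MvPolynomial.Equiv
import Mathlib.RingTheory.Localization.LocalizationLocalization

/-! # Polynomial rings over Gorenstein rings are Gorenstein -/

set_option autoImplicit false

universe u

open IsLocalRing Polynomial

namespace GorLib

theorem gorenstein_of_maximalIdeal_eq_bot {F : Type u} [CommRing F] [IsLocalRing F] [IsNoetherianRing F]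
    (h : maximalIdeal F = ⊥) : LocCoh.IsGorensteinLocalRing F := by
  haveI : Ring.KrullDimLE 0 F := Ring.KrullDimLE.mk₀ fun p hp => by
    have : p = maximalIdeal F := le_antisymm (le_maximalIdeal hp.ne_top) (h ▸ bot_le)
    exact this ▸ maximalIdeal.isMaximal F
  haveI : IsArtinianRing F := IsNoetherianRing.isArtinianRing_of_krullDimLE_zero
  refine gorenstein_iff_socCyclic.2 ⟨1, one_ne_zero, fun a ha => ?_, fun x _ => ?_⟩
  · rw [h, Submodule.mem_bot] at ha; rw [ha, zero_mul]
  · exact Ideal.mem_span_singleton'.2 ⟨x, mul_one x⟩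

theorem gorenstein_polynomial_over_maximal {R : Type u} [CommRing R] [IsLocalRing R] [IsNoetherianRing R]
    (hR : LocCoh.IsGorensteinLocalRing R) (Q : Ideal R[X]) [Q.IsPrime]
    (hQ : Q.comap (algebraMap R R[X]) = maximalIdeal R) :
    LocCoh.IsGorensteinLocalRing (Localization.AtPrime Q) := by
  let S := Localization.AtPrime Q
  haveI : IsNoetherianRing S := IsLocalization.isNoetherianRing Q.primeCompl _ inferInstance
  haveI : Module.Flat R[X] S := IsLocalization.flat S Q.primeCompl
  haveI : Module.Flat R S := Module.Flat.trans R R[X] S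
  haveI : IsLocalHom (algebraMap R S) := ⟨fun r hr => by
    by_contra hrn
    have h1 : algebraMap R R[X] r ∈ Q := by rw [← Ideal.mem_comap, hQ]; exact hrn
    rw [IsScalarTower.algebraMap_apply R R[X] S] at hr
    exact ((IsLocalization.AtPrime.isUnit_to_map_iff S Q _).1 hr) h1⟩
  refine (gorenstein_flat_iff R S).2 ⟨hR, ?_⟩
  let φ : R[X] →+* (ResidueField R)[X] := mapRingHom (residue R)
  have hφ : Function.Surjective φ := Polynomial.map_surjective _ residue_surjective
  let J : Ideal R[X] := RingHom.ker φ
  haveI : J.IsPrime := RingHom.ker_isPrime φ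
  have hJ : J = (maximalIdeal R).map (algebraMap R R[X]) := by
    show RingHom.ker (mapRingHom (residue R)) = _
    rw [Polynomial.ker_mapRingHom, IsLocalRing.ker_residue]
    rfl
  have hJQ : J ≤ Q := by
    rw [hJ, Ideal.map_le_iff_le_comap, hQ]
  have hfib : (maximalIdeal R).map (algebraMap R S) = J.map (algebraMap R[X] S) := by
    rw [hJ, Ideal.map_map, ← IsScalarTower.algebraMap_eq]
  obtain ⟨g, hg⟩ : ∃ g ∈ Q, Q = J ⊔ Ideal.span {g} := by
    obtain ⟨h, hh⟩ := IsPrincipalIdealRing.principal (Q.map φ)
    obtain ⟨g, hgQ, hgh⟩ := (Ideal.mem_map_iff_of_surjective φ hφ).1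
      (show h ∈ Q.map φ by rw [hh]; exact Submodule.mem_span_singleton_self h)
    refine ⟨g, hgQ, le_antisymm (fun x hx => ?_) (sup_le hJQ ((Ideal.span_singleton_le_iff_mem _).2 hgQ))⟩
    have h1 : φ x ∈ Q.map φ := Ideal.mem_map_of_mem _ hx
    rw [hh] at h1
    obtain ⟨c, hc⟩ := Submodule.mem_span_singleton.1 h1
    obtain ⟨c', rfl⟩ := hφ c
    refine Submodule.mem_sup.2 ⟨x - c' * g, ?_, c' * g, Ideal.mul_mem_left _ _ (Ideal.mem_span_singleton_self g),
      sub_add_cancel _ _⟩
    rw [RingHom.mem_ker, map_sub, map_mul, hgh, ← hc, smul_eq_mul, sub_self]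
  obtain ⟨hgQ, hQg⟩ := hg
  let F := Fib R S
  haveI : IsLocalRing F := isLocalRing_quotient (map_maximalIdeal_ne_top R S)
  have hmaxF : maximalIdeal F = Ideal.span {Ideal.Quotient.mk _ (algebraMap R[X] S g)} := by
    rw [maximalIdeal_quotient, ← Localization.AtPrime.map_eq_maximalIdeal]
    rw [show Q.map (algebraMap R[X] S) = (J ⊔ Ideal.span {g}).map (algebraMap R[X] S) from congrArg _ hQg]
    rw [Ideal.map_sup, Ideal.map_sup, Ideal.map_span, Ideal.map_span, Set.image_singleton, Set.image_singleton,
      ← hfib, Ideal.map_quotient_self, bot_sup_eq]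
  by_cases hgJ : g ∈ J
  · refine gorenstein_of_maximalIdeal_eq_bot ?_
    rw [hmaxF, Ideal.span_singleton_eq_bot, Ideal.Quotient.eq_zero_iff_mem, hfib]
    exact Ideal.mem_map_of_mem _ hgJ
  · have hdisj : Disjoint (Q.primeCompl : Set R[X]) J := by
      rw [Set.disjoint_left]
      exact fun x hx hxJ => hx (hJQ hxJ)
    haveI : (J.map (algebraMap R[X] S)).IsPrime :=
      IsLocalization.isPrime_of_isPrime_disjoint Q.primeCompl S J ‹_› hdisj
    haveI : IsDomain F := by
      haveI : ((maximalIdeal R).map (algebraMap R S)).IsPrime := hfib ▸ ‹(J.map (algebraMap R[X] S)).IsPrime›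
      exact Ideal.Quotient.isDomain _
    let gb : F := Ideal.Quotient.mk _ (algebraMap R[X] S g)
    have hgb : gb ≠ 0 := by
      rw [Ne, Ideal.Quotient.eq_zero_iff_mem, hfib]
      intro hmem
      have : g ∈ (J.map (algebraMap R[X] S)).under R[X] := hmem
      rw [IsLocalization.under_map_of_isPrime_disjoint Q.primeCompl S ‹_› hdisj] at this
      exact hgJ this
    have hreg : IsSMulRegular F gb := fun a b h => mul_left_cancel₀ hgb h
    have hgm : gb ∈ maximalIdeal F := by rw [hmaxF]; exact Ideal.mem_span_singleton_self _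
    refine (gorenstein_quotient_iff hreg hgm).2 ?_
    haveI : IsLocalRing (F ⧸ Ideal.span {gb}) := isLocalRing_quotient (hmaxF ▸ (maximalIdeal.isMaximal F).ne_top)
    refine gorenstein_of_maximalIdeal_eq_bot ?_
    rw [maximalIdeal_quotient, hmaxF, Ideal.map_quotient_self]

theorem gorensteinRing_polynomial {R : Type u} [CommRing R] (hR : LocCoh.IsGorensteinRing R) :
    LocCoh.IsGorensteinRing R[X] := by
  haveI := hR
  refine { isGorensteinLocalRing_localization := fun Q _ => ?_ }
  let p := Q.under R
  let T := Localization.AtPrime p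
  haveI : IsNoetherianRing T := IsLocalization.isNoetherianRing p.primeCompl _ inferInstance
  letI : Algebra R[X] T[X] := Polynomial.algebra R T
  haveI : IsLocalization (p.primeCompl.map C) T[X] := Polynomial.isLocalization p.primeCompl T
  let Q' := Q.map (algebraMap R[X] T[X])
  have hdisj : Disjoint ((p.primeCompl.map C : Submonoid R[X]) : Set R[X]) Q := by
    rw [Set.disjoint_left]
    rintro _ ⟨a, ha, rfl⟩ hQ
    exact ha hQ
  haveI : Q'.IsPrime := IsLocalization.isPrime_of_isPrime_disjoint (p.primeCompl.map C) _ Q ‹_› hdisj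
  have hQ' : Q'.comap (algebraMap R[X] T[X]) = Q :=
    IsLocalization.comap_map_of_isPrime_disjoint (p.primeCompl.map C) _ ‹_› hdisj
  have hover : Q'.comap (algebraMap T T[X]) = maximalIdeal T := by
    have h1 : (Q'.comap (algebraMap T T[X])).comap (algebraMap R T) = p := by
      rw [Ideal.comap_comap]
      refine Eq.trans ?_ (congrArg (Ideal.comap (algebraMap R R[X])) hQ')
      rw [Ideal.comap_comap]
      congr 1
      refine RingHom.ext fun a => ?_
      show Polynomial.C (algebraMap R T a) = (Polynomial.C a).map (algebraMap R T)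
      rw [Polynomial.map_C]
    rw [← IsLocalization.map_comap p.primeCompl T (Q'.comap (algebraMap T T[X])), Ideal.under_def (A := R), h1,
      IsLocalization.AtPrime.map_eq_maximalIdeal p T]
  have hG := gorenstein_polynomial_over_maximal (R := T) (hR.isGorensteinLocalRing_localization p) Q' hover
  haveI : IsLocalization.AtPrime (Localization.AtPrime Q') Q := by
    have h1 : IsLocalization.AtPrime (Localization.AtPrime Q') (Q'.comap (algebraMap R[X] T[X])) :=
      IsLocalization.isLocalization_isLocalization_atPrime_isLocalization (p.primeCompl.map C) _ Q'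
    simpa only [hQ'] using h1
  exact gorenstein_of_ringEquiv (IsLocalization.algEquiv Q.primeCompl (Localization.AtPrime Q)
    (Localization.AtPrime Q')).toRingEquiv hG

theorem gorensteinRing_of_ringEquiv {R S : Type u} [CommRing R] [CommRing S] (e : R ≃+* S)
    (hS : LocCoh.IsGorensteinRing S) : LocCoh.IsGorensteinRing R := by
  haveI : IsNoetherianRing R := isNoetherianRing_of_ringEquiv S e.symm
  refine { isGorensteinLocalRing_localization := fun p _ => ?_ }
  refine gorenstein_of_ringEquiv ?_ (hS.isGorensteinLocalRing_localization (p.comap (e.symm : S →+* R)))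
  refine IsLocalization.ringEquivOfRingEquiv (M := p.primeCompl) (T := (p.comap (e.symm : S →+* R)).primeCompl)
    (Localization.AtPrime p) (Localization.AtPrime (p.comap (e.symm : S →+* R))) e ?_
  ext x
  constructor
  · rintro ⟨y, hy, rfl⟩
    show ¬ (e.symm (e y) ∈ p)
    rw [e.symm_apply_apply]
    exact hy
  · intro hx
    exact ⟨e.symm x, hx, e.apply_symm_apply x⟩

theorem gorensteinRing_mvPolynomial {R : Type u} [CommRing R] (hR : LocCoh.IsGorensteinRing R) :
    ∀ n : ℕ, LocCoh.IsGorensteinRing (MvPolynomial (Fin n) R)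
  | 0 => gorensteinRing_of_ringEquiv (MvPolynomial.isEmptyRingEquiv R (Fin 0)) hR
  | n + 1 => gorensteinRing_of_ringEquiv (MvPolynomial.finSuccEquiv R n).toRingEquiv
      (gorensteinRing_polynomial (gorensteinRing_mvPolynomial hR n))

end GorLib
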