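import Groth.Agent.GorLib.RegSeq
import Groth.Agent.GorLib.Polynomial
import Groth.Agent.KRLib.Ideal
import Groth.Agent.CatLib.Univ
import Mathlib.RingTheory.Flat.Localization

/-! # Quotients of Gorenstein rings by Koszul regular ideals -/

set_option autoImplicit false

universe u

open IsLocalRing KoszDetLib

namespace GorLib

theorem gorenstein_localization_of_krGen {P B : Type u} [CommRing P] [CommRing B] (hP : LocCoh.IsGorensteinRing P)
    (σ : P →+* B) (hσ : Function.Surjective σ) (q : Ideal B) [q.IsPrime]
    (h : KRLib.KRGen ((RingHom.ker σ).map (algebraMap P (Localization.AtPrime (q.comap σ))))) :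
    LocCoh.IsGorensteinLocalRing (Localization.AtPrime q) := by
  let T := Localization.AtPrime (q.comap σ)
  haveI := hP
  haveI : IsNoetherianRing T := IsLocalization.isNoetherianRing (q.comap σ).primeCompl _ inferInstance
  obtain ⟨hψ, hker⟩ := CatLib.localRingHom_surjective σ hσ q
  obtain ⟨n, f, hf, hspan⟩ := h
  have hm : ∀ i, f i ∈ maximalIdeal T := fun i => by
    have h1 : f i ∈ (RingHom.ker σ).map (algebraMap P T) := hspan ▸ Ideal.subset_span ⟨i, rfl⟩
    have h2 : (RingHom.ker σ).map (algebraMap P T) ≤ (q.comap σ).map (algebraMap P T) :=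
      Ideal.map_mono fun x hx => by
        rw [Ideal.mem_comap, RingHom.mem_ker.1 hx]
        exact q.zero_mem
    rw [← IsLocalization.AtPrime.map_eq_maximalIdeal (q.comap σ) T]
    exact h2 h1
  exact gorenstein_of_ringEquiv ((RingHom.quotientKerEquivOfSurjective hψ).symm.trans
    (Ideal.quotEquivOfEq (hker.trans hspan.symm)))
    (gorenstein_quotient_of_isExactK (hP.isGorensteinLocalRing_localization (q.comap σ)) hf hm)

/-- The quotient of a Gorenstein ring by a Koszul regular ideal is Gorenstein. -/
theorem gorensteinRing_quotient_locKR {P B : Type u} [CommRing P] [CommRing B] (hP : LocCoh.IsGorensteinRing P)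
    (σ : P →+* B) (hσ : Function.Surjective σ) (h : KRLib.LocKR (RingHom.ker σ)) : LocCoh.IsGorensteinRing B := by
  haveI := hP
  haveI : IsNoetherianRing B := isNoetherianRing_of_surjective P B σ hσ
  refine { isGorensteinLocalRing_localization := fun q _ => gorenstein_localization_of_krGen hP σ hσ q ?_ }
  obtain ⟨g, hg, hkr⟩ := h (q.comap σ) inferInstance (fun x hx => by
    rw [Ideal.mem_comap, RingHom.mem_ker.1 hx]; exact q.zero_mem)
  let T := Localization.AtPrime (q.comap σ)
  let L := Localization.Away g
  have hu : IsUnit (algebraMap P T g) := IsLocalization.map_units T (⟨g, hg⟩ : (q.comap σ).primeCompl)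
  let ι : L →+* T := IsLocalization.Away.lift g hu
  letI : Algebra L T := ι.toAlgebra
  haveI : IsScalarTower P L T := IsScalarTower.of_algebraMap_eq fun x => (IsLocalization.Away.lift_eq g hu x).symm
  haveI : Module.Flat P T := IsLocalization.flat T (q.comap σ).primeCompl
  haveI : Module.Flat L T := (Module.flat_iff_of_isLocalization L (Submonoid.powers g) T).2 inferInstance
  have h2 := hkr.map_flat (R := T)
  rwa [Ideal.map_map, ← IsScalarTower.algebraMap_eq] at h2

theorem gorensteinRing_of_isLCI {A B : Type u} [CommRing A] [CommRing B] [Algebra A B]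
    (hA : LocCoh.IsGorensteinRing A) (h : LCI.IsLCI A B) : LocCoh.IsGorensteinRing B := by
  obtain ⟨-, n, f, hf, hker⟩ := h
  exact gorensteinRing_quotient_locKR (gorensteinRing_mvPolynomial hA n) f.toRingHom hf ((KRLib.locKR_iff _).2 hker)

end GorLib
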