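import Groth.Agent.GorLib.Fibres

/-! # Gorenstein morphisms in affine charts -/

set_option autoImplicit false

universe u

open CategoryTheory AlgebraicGeometry IsLocalRing

namespace GorLib

/-- Gorenstein at a point, in affine charts. -/
theorem isGorensteinAt_chart {X Y : Scheme.{u}} (f : X ⟶ Y) {V : Y.Opens} (hV : IsAffineOpen V) {U : X.Opens}
    (hU : IsAffineOpen U) (hUV : U ≤ f ⁻¹ᵁ V) [Algebra Γ(Y, V) Γ(X, U)]
    (hA : algebraMap Γ(Y, V) Γ(X, U) = (f.appLE V U hUV).hom) (x : X) (hx : x ∈ U)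
    (p : Ideal Γ(Y, V)) [p.IsPrime] (r : Ideal Γ(X, U)) [r.IsPrime] (hr : r = (hU.primeIdealOf ⟨x, hx⟩).asIdeal)
    (hp : p = r.comap (algebraMap Γ(Y, V) Γ(X, U))) :
    ((f.stalkMap x).hom.Flat ↔ (Localization.localRingHom p r (algebraMap Γ(Y, V) Γ(X, U)) hp).Flat) ∧
    (LocCoh.IsGorensteinLocalRing (X.presheaf.stalk x ⧸
        (maximalIdeal (Y.presheaf.stalk (f x))).map (f.stalkMap x).hom) ↔
      LocCoh.IsGorensteinLocalRing (Localization.AtPrime r ⧸ p.map (algebraMap Γ(Y, V) (Localization.AtPrime r)))) ∧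
    (IsNoetherianRing (X.presheaf.stalk x ⧸ (maximalIdeal (Y.presheaf.stalk (f x))).map (f.stalkMap x).hom) ↔
      IsNoetherianRing (Localization.AtPrime r ⧸ p.map (algebraMap Γ(Y, V) (Localization.AtPrime r)))) := by
  subst hr
  have hy : f x ∈ V := hUV hx
  have hp' : p = (hV.primeIdealOf ⟨f x, hy⟩).asIdeal := by
    rw [hp, hA, ← IsAffineOpen.comap_primeIdealOf_appLE (f := f) V hV U hU hUV hx]
    rfl
  subst hp'
  letI algX : Algebra Γ(X, U) (X.presheaf.stalk x) := TopCat.Presheaf.algebra_section_stalk X.presheaf ⟨x, hx⟩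
  letI algY : Algebra Γ(Y, V) (Y.presheaf.stalk (f x)) := TopCat.Presheaf.algebra_section_stalk Y.presheaf ⟨f x, hy⟩
  haveI : IsLocalization.AtPrime (X.presheaf.stalk x) (hU.primeIdealOf ⟨x, hx⟩).asIdeal := hU.isLocalization_stalk ⟨x, hx⟩
  haveI : IsLocalization.AtPrime (Y.presheaf.stalk (f x)) (hV.primeIdealOf ⟨f x, hy⟩).asIdeal := hV.isLocalization_stalk ⟨f x, hy⟩
  let eX := (IsLocalization.algEquiv (hU.primeIdealOf ⟨x, hx⟩).asIdeal.primeCompl
    (Localization.AtPrime (hU.primeIdealOf ⟨x, hx⟩).asIdeal) (X.presheaf.stalk x)).toRingEquiv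
  let eY := (IsLocalization.algEquiv (hV.primeIdealOf ⟨f x, hy⟩).asIdeal.primeCompl
    (Localization.AtPrime (hV.primeIdealOf ⟨f x, hy⟩).asIdeal) (Y.presheaf.stalk (f x))).toRingEquiv
  let φ := Localization.localRingHom _ _ (algebraMap Γ(Y, V) Γ(X, U)) hp
  have hgerm : f.appLE V U hUV ≫ X.presheaf.germ U x hx = Y.presheaf.germ V (f x) hy ≫ f.stalkMap x := by
    rw [Scheme.Hom.appLE, Category.assoc, X.presheaf.germ_res, Scheme.Hom.germ_stalkMap]
  have hcomm : (f.stalkMap x).hom.comp eY.toRingHom = eX.toRingHom.comp φ := by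
    refine IsLocalization.ringHom_ext (hV.primeIdealOf ⟨f x, hy⟩).asIdeal.primeCompl (RingHom.ext fun a => ?_)
    have h1 : eY (algebraMap Γ(Y, V) _ a) = algebraMap Γ(Y, V) (Y.presheaf.stalk (f x)) a :=
      (IsLocalization.algEquiv (hV.primeIdealOf ⟨f x, hy⟩).asIdeal.primeCompl
        (Localization.AtPrime (hV.primeIdealOf ⟨f x, hy⟩).asIdeal) (Y.presheaf.stalk (f x))).commutes a
    have h2 : eX (algebraMap Γ(X, U) _ (algebraMap Γ(Y, V) Γ(X, U) a)) =
        algebraMap Γ(X, U) (X.presheaf.stalk x) (algebraMap Γ(Y, V) Γ(X, U) a) :=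
      (IsLocalization.algEquiv (hU.primeIdealOf ⟨x, hx⟩).asIdeal.primeCompl
        (Localization.AtPrime (hU.primeIdealOf ⟨x, hx⟩).asIdeal) (X.presheaf.stalk x)).commutes _
    show (f.stalkMap x).hom (eY (algebraMap Γ(Y, V) _ a)) = eX (φ (algebraMap Γ(Y, V) _ a))
    rw [Localization.localRingHom_to_map, h1, h2, hA]
    exact (ConcreteCategory.congr_hom hgerm a).symm
  have hflat : (f.stalkMap x).hom.Flat ↔ φ.Flat := by
    refine ⟨fun h => ?_, fun h => ?_⟩
    · have : φ = eX.symm.toRingHom.comp ((f.stalkMap x).hom.comp eY.toRingHom) := by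
        rw [hcomm]; ext a; simp
      rw [this]
      exact (RingHom.Flat.of_bijective eY.bijective |>.comp h).comp (RingHom.Flat.of_bijective eX.symm.bijective)
    · have : (f.stalkMap x).hom = (eX.toRingHom.comp φ).comp eY.symm.toRingHom := by
        rw [← hcomm]; ext a; simp
      rw [this]
      exact (RingHom.Flat.of_bijective eY.symm.bijective).comp (h.comp (RingHom.Flat.of_bijective eX.bijective))
  have hmax : (maximalIdeal (Localization.AtPrime (hV.primeIdealOf ⟨f x, hy⟩).asIdeal)).map eY.toRingHom =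
      maximalIdeal (Y.presheaf.stalk (f x)) := IsLocalRing.map_maximalIdeal_of_surjective _ eY.surjective
  have hideal : (maximalIdeal (Y.presheaf.stalk (f x))).map (f.stalkMap x).hom =
      ((hV.primeIdealOf ⟨f x, hy⟩).asIdeal.map (algebraMap Γ(Y, V) (Localization.AtPrime (hU.primeIdealOf ⟨x, hx⟩).asIdeal))).map
        (eX : _ →+* X.presheaf.stalk x) := by
    rw [← hmax, Ideal.map_map, hcomm, ← Ideal.map_map, map_maximalIdeal_localRingHom _ _ hp]
    rfl
  let e := Ideal.quotientEquiv _ _ eX hideal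
  exact ⟨hflat, gorenstein_congr e.symm, ⟨fun h => isNoetherianRing_of_ringEquiv _ e.symm,
    fun h => isNoetherianRing_of_ringEquiv _ e⟩⟩

end GorLib
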