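import Groth.Agent.KRLib.Model
import Groth.Agent.PDLib.PD
import Groth.Agent.FlatLib.FlatMisc
import Mathlib.LinearAlgebra.TensorProduct.Pi
import Mathlib.RingTheory.TensorProduct.Basic

/-! # Base change of Koszul exact families with flat quotient -/

set_option autoImplicit false

universe u

open KoszDetLib TensorProduct

namespace GorLib

section Flat

variable {A : Type u} [CommRing A]

theorem flat_prod_of {M N : Type u} [AddCommGroup M] [AddCommGroup N] [Module A M] [Module A N] [Module.Flat A M]
    [Module.Flat A N] : Module.Flat A (M × N) := by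
  rw [Module.Flat.iff_lTensor_preserves_injective_linearMap]
  intro P P' _ _ _ _ f hf
  have hM := Module.Flat.lTensor_preserves_injective_linearMap (M := M) f hf
  have hN := Module.Flat.lTensor_preserves_injective_linearMap (M := N) f hf
  have h : ∀ x, TensorProduct.prodLeft A A M N P' (f.lTensor (M × N) x) =
      ((f.lTensor M) (TensorProduct.prodLeft A A M N P x).1, (f.lTensor N) (TensorProduct.prodLeft A A M N P x).2) := by
    intro x
    induction x using TensorProduct.induction_on with
    | zero => ext <;> simp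
    | tmul m p => obtain ⟨a, b⟩ := m; ext <;> simp
    | add x y hx hy => ext <;> simp [hx, hy]
  intro x y hxy
  have h1 := (h x).symm.trans ((congrArg _ hxy).trans (h y))
  exact (TensorProduct.prodLeft A A M N P).injective
    (Prod.ext (hM (congrArg Prod.fst h1)) (hN (congrArg Prod.snd h1)))

theorem flat_pi_of_finite {ι : Type} [Finite ι] {M : Type u} [AddCommGroup M] [Module A M] [Module.Flat A M] :
    Module.Flat A (ι → M) := by
  classical
  haveI := Fintype.ofFinite ι
  exact Module.Flat.of_linearEquiv (DFinsupp.linearEquivFunOnFintype (R := A) (M := fun _ : ι => M)).symm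

theorem flat_range_of_idem {K : Type u} [AddCommGroup K] [Module A K] [Module.Flat A K] (r : K →ₗ[A] K)
    (hr : ∀ x, r (r x) = r x) : Module.Flat A (LinearMap.range r) :=
  Module.Flat.of_retract (LinearMap.range r).subtype r.rangeRestrict (by
    ext ⟨y, x, rfl⟩
    exact hr x)

theorem flat_quotient_range_of {K N X : Type u} [AddCommGroup K] [Module A K] [AddCommGroup N] [Module A N]
    [AddCommGroup X] [Module A X] [Module.Flat A N] (S : Submodule A K) (h : K →ₗ[A] N)
    (hh : Function.Surjective h) (hS : LinearMap.ker h = S) : Module.Flat A (K ⧸ S) :=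
  Module.Flat.of_linearEquiv ((Submodule.quotEquivOfEq _ _ hS.symm).trans (h.quotKerEquivOfSurjective hh))

/-- Exactness is kept by tensoring when the cokernel is flat. -/
theorem rTensor_exact_of_flat_coker {L M N : Type u} [AddCommGroup L] [Module A L] [AddCommGroup M] [Module A M]
    [AddCommGroup N] [Module A N] (φ : L →ₗ[A] M) (g : M →ₗ[A] N) (hex : Function.Exact φ g)
    [Module.Flat A (N ⧸ LinearMap.range g)] (X : Type u) [AddCommGroup X] [Module A X] :
    Function.Exact (φ.rTensor X) (g.rTensor X) := by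
  have h1 : Function.Exact φ g.rangeRestrict := fun y => by
    rw [← hex y]
    exact ⟨fun h => congrArg Subtype.val h, fun h => Subtype.ext h⟩
  have h2 : Function.Surjective g.rangeRestrict := fun ⟨_, x, rfl⟩ => ⟨x, rfl⟩
  have h3 := rTensor_exact X h1 h2
  have h4 : Function.Injective ((LinearMap.range g).subtype.rTensor X) :=
    FlatLib.lTensor_injective_of_flat_coker (LinearMap.range g).subtype (LinearMap.range g).mkQ
      Subtype.val_injective (LinearMap.exact_subtype_mkQ _) (Submodule.mkQ_surjective _) X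
  intro y
  rw [show g.rTensor X = ((LinearMap.range g).subtype.rTensor X) ∘ₗ (g.rangeRestrict.rTensor X) by
    rw [← LinearMap.rTensor_comp]; rfl, LinearMap.comp_apply]
  rw [← h3 y]
  exact ⟨fun h => h4 (h.trans (map_zero _).symm), fun h => by rw [h, map_zero]⟩

end Flat

section Kosz

variable {A Q : Type u} [CommRing A] [CommRing Q] [Algebra A Q] {n : ℕ}

/-- The differential in degree `p`, extended by zero. -/
noncomputable def dD (f : Fin n → Q) (p : ℕ) : Kz Q n →ₗ[A] Kz Q n := ((D f) ∘ₗ proj p).restrictScalars A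

/-- The complement of degree `p`. -/
noncomputable def cD (p : ℕ) : Kz Q n →ₗ[A] Kz Q n := (LinearMap.id - proj p : Kz Q n →ₗ[Q] Kz Q n).restrictScalars A

theorem cD_idem (p : ℕ) (x : Kz Q n) : cD (A := A) p (cD (A := A) p x) = cD (A := A) p x := by
  show (x - proj p x) - proj p (x - proj p x) = x - proj p x
  rw [map_sub, proj_proj, sub_self, sub_zero]

theorem proj_cD (p : ℕ) (x : Kz Q n) : proj p (cD (A := A) p x) = 0 := by
  show proj p (x - proj p x) = 0
  rw [map_sub, proj_proj, sub_self]

theorem proj_dD (f : Fin n → Q) (p : ℕ) (x : Kz Q n) :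
    proj p (dD (A := A) f (p + 1) x) = dD (A := A) f (p + 1) x := by
  show proj p (D f (proj (p + 1) x)) = D f (proj (p + 1) x)
  rw [D_proj_succ, proj_proj]

theorem eps_proj_succ (p : ℕ) (x : Kz Q n) : eps (proj (p + 1) x) = 0 := by
  show proj (p + 1) x (bot n) = 0
  rw [proj_apply, if_neg (by rw [deg_bot]; exact (Nat.succ_ne_zero p).symm)]

theorem dD_dD (f : Fin n → Q) (p : ℕ) (x : Kz Q n) : dD (A := A) f (p + 1) (dD (A := A) f (p + 2) x) = 0 := by
  show D f (proj (p + 1) (D f (proj (p + 2) x))) = 0
  rw [D_proj_succ f (p + 1) x, proj_proj, ← D_proj_succ, D_D]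

theorem exists_dD_eq {f : Fin n → Q} (hf : IsExactK f) {p : ℕ} {x : Kz Q n} (hx : dD (A := A) f (p + 1) x = 0) :
    ∃ w, dD (A := A) f (p + 2) w = proj (p + 1) x := by
  obtain ⟨w, hw⟩ := hf (proj (p + 1) x) hx (by rw [eps_proj_succ]; exact Ideal.zero_mem _)
  refine ⟨w, ?_⟩
  show D f (proj (p + 2) w) = _
  rw [D_proj_succ f (p + 1) w, hw, proj_proj]

variable [Module.Flat A Q]

instance flat_kz : Module.Flat A (Kz Q n) := by
  haveI := finite_idx n
  exact flat_pi_of_finite (A := A) (ι := Idx n) (M := Q)

variable (A) in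
theorem flat_coker_dD (f : Fin n → Q) (hf : IsExactK f) [Module.Flat A (Q ⧸ Ideal.span (Set.range f))] :
    ∀ p, Module.Flat A (Kz Q n ⧸ LinearMap.range (dD (A := A) f (p + 1)))
  | 0 => by
    haveI := flat_range_of_idem (cD (A := A) (Q := Q) (n := n) 0) (cD_idem 0)
    let e : Kz Q n →ₗ[A] Q ⧸ Ideal.span (Set.range f) :=
      ((Ideal.Quotient.mkₐ A (Ideal.span (Set.range f))).toLinearMap) ∘ₗ (eps : Kz Q n →ₗ[Q] Q).restrictScalars A
    let h := e.prod (cD (A := A) (Q := Q) (n := n) 0).rangeRestrict
    haveI := flat_prod_of (A := A) (M := Q ⧸ Ideal.span (Set.range f)) (N := LinearMap.range (cD (A := A) (Q := Q) (n := n) 0))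
    refine flat_quotient_range_of (X := Q) _ h ?_ ?_
    · rintro ⟨c, y, x, rfl⟩
      obtain ⟨c, rfl⟩ := Ideal.Quotient.mk_surjective c
      have he : eps (cD (A := A) 0 x) = 0 := by
        show eps (x - proj 0 x) = 0
        rw [map_sub, proj_zero_eq, map_smul, eps_one, smul_eq_mul, mul_one, sub_self]
      refine ⟨c • one n + cD (A := A) 0 x, Prod.ext ?_ (Subtype.ext ?_)⟩
      · show Ideal.Quotient.mk _ (eps (c • one n + cD (A := A) 0 x)) = _
        rw [map_add, map_smul, eps_one, he, smul_eq_mul, mul_one, add_zero]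
      · show (c • one n + cD (A := A) 0 x) - proj 0 (c • one n + cD (A := A) 0 x) = cD (A := A) 0 x
        rw [map_add, proj_cD, add_zero, proj_zero_eq, map_smul, eps_one, smul_eq_mul, mul_one, add_sub_cancel_left]
    · ext x
      rw [LinearMap.mem_ker]
      constructor
      · intro hx
        have h1 : Ideal.Quotient.mk (Ideal.span (Set.range f)) (eps x) = 0 := congrArg Prod.fst hx
        have h2 : x - proj 0 x = 0 := congrArg (fun z => (Prod.snd z).1) hx
        obtain ⟨w, hw⟩ := mem_range_proj_zero f _ (Ideal.Quotient.eq_zero_iff_mem.1 h1)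
        refine ⟨w, ?_⟩
        show D f (proj 1 w) = x
        rw [D_proj_succ, hw, ← proj_zero_eq, proj_proj, ← sub_eq_zero.1 h2]
      · rintro ⟨w, rfl⟩
        refine Prod.ext (Ideal.Quotient.eq_zero_iff_mem.2 (eps_D_mem f _)) (Subtype.ext ?_)
        show dD (A := A) f 1 w - proj 0 (dD (A := A) f 1 w) = 0
        rw [proj_dD, sub_self]
  | p + 1 => by
    haveI := flat_coker_dD f hf p
    haveI := flat_range_of_idem (cD (A := A) (Q := Q) (n := n) (p + 1)) (cD_idem _)
    haveI := PDLib.flat_ker (A := A) (LinearMap.range (dD (A := A) f (p + 1))).mkQ (Submodule.mkQ_surjective _)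
    haveI : Module.Flat A (LinearMap.range (dD (A := A) f (p + 1))) :=
      Module.Flat.of_linearEquiv (LinearEquiv.ofEq _ _ (Submodule.ker_mkQ _).symm :
        _ ≃ₗ[A] LinearMap.ker (LinearMap.range (dD (A := A) f (p + 1))).mkQ)
    let h := (dD (A := A) f (p + 1)).rangeRestrict.prod (cD (A := A) (Q := Q) (n := n) (p + 1)).rangeRestrict
    haveI := flat_prod_of (A := A) (M := LinearMap.range (dD (A := A) f (p + 1)))
      (N := LinearMap.range (cD (A := A) (Q := Q) (n := n) (p + 1)))
    refine flat_quotient_range_of (X := Q) _ h ?_ ?_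
    · rintro ⟨⟨_, a, rfl⟩, ⟨_, b, rfl⟩⟩
      refine ⟨proj (p + 1) a + cD (A := A) (p + 1) b, Prod.ext (Subtype.ext ?_) (Subtype.ext ?_)⟩
      · show D f (proj (p + 1) (proj (p + 1) a + cD (A := A) (p + 1) b)) = D f (proj (p + 1) a)
        rw [map_add, proj_cD, add_zero, proj_proj]
      · show (proj (p + 1) a + cD (A := A) (p + 1) b) - proj (p + 1) (proj (p + 1) a + cD (A := A) (p + 1) b) = _
        rw [map_add (proj (p + 1)), proj_cD, add_zero, proj_proj, add_sub_cancel_left]
    · ext x
      rw [LinearMap.mem_ker]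
      constructor
      · intro hx
        have h1 : dD (A := A) f (p + 1) x = 0 := congrArg (fun z => (Prod.fst z).1) hx
        have h2 : x - proj (p + 1) x = 0 := congrArg (fun z => (Prod.snd z).1) hx
        obtain ⟨w, hw⟩ := exists_dD_eq hf h1
        exact ⟨w, hw.trans (sub_eq_zero.1 h2).symm⟩
      · rintro ⟨w, rfl⟩
        refine Prod.ext (Subtype.ext (dD_dD f p w)) (Subtype.ext ?_)
        show dD (A := A) f (p + 2) w - proj (p + 1) (dD (A := A) f (p + 2) w) = 0
        rw [proj_dD f (p + 1), sub_self]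

/-- Base change of a Koszul exact family with flat quotient. -/
theorem isExactK_baseChange (A' : Type u) [CommRing A'] [Algebra A A'] (f : Fin n → Q) (hf : IsExactK f)
    [Module.Flat A (Q ⧸ Ideal.span (Set.range f))] :
    IsExactK (fun i => f i ⊗ₜ[A] (1 : A') : Fin n → Q ⊗[A] A') := by
  haveI := finite_idx n
  haveI := Fintype.ofFinite (Idx n)
  let σ : Q →+* Q ⊗[A] A' := Algebra.TensorProduct.includeLeftRingHom
  let f' : Fin n → Q ⊗[A] A' := fun i => σ (f i)
  show IsExactK f'
  let e : Kz Q n ⊗[A] A' ≃ₗ[A] Kz (Q ⊗[A] A') n := TensorProduct.piLeft A A' (fun _ : Idx n => Q)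
  have he : ∀ (x : Kz Q n) (a : A'), e (x ⊗ₜ a) = ((1 : Q) ⊗ₜ[A] a) • KRLib.mapK σ x := fun x a => by
    funext s
    show e (x ⊗ₜ a) s = (1 : Q) ⊗ₜ[A] a * (x s ⊗ₜ[A] (1 : A'))
    rw [Algebra.TensorProduct.tmul_mul_tmul, one_mul, mul_one]
    simp [e]
  have hproj : ∀ p (z : Kz Q n ⊗[A] A'),
      e ((proj p).restrictScalars A |>.rTensor A' z) = proj p (e z) := by
    intro p z
    induction z using TensorProduct.induction_on with
    | zero => simp
    | tmul x a =>
      rw [LinearMap.rTensor_tmul, he, he, map_smul]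
      congr 1
      funext s
      show σ (proj p x s) = proj p (KRLib.mapK σ x) s
      rw [proj_apply, proj_apply]
      split_ifs with hs
      · rfl
      · exact map_zero σ
    | add z w hz hw => rw [map_add, map_add, hz, hw, map_add, map_add]
  have hD : ∀ (z : Kz Q n ⊗[A] A'), e (((D f).restrictScalars A).rTensor A' z) = D f' (e z) := by
    intro z
    induction z using TensorProduct.induction_on with
    | zero => simp
    | tmul x a => rw [LinearMap.rTensor_tmul, he, he, map_smul]; congr 1; exact KRLib.mapK_D σ f x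
    | add z w hz hw => rw [map_add, map_add, hz, hw, map_add, map_add]
  intro x' hx hxe
  rw [← sum_proj x']
  refine Submodule.sum_mem _ fun p _ => ?_
  cases p with
  | zero => rw [proj_zero_eq]; exact mem_range_proj_zero f' _ hxe
  | succ p =>
    obtain ⟨z, rfl⟩ := e.surjective x'
    let φ := (dD (A := A) f (p + 2)).coprod (cD (A := A) (Q := Q) (n := n) (p + 1))
    have hex : Function.Exact φ (dD (A := A) f (p + 1)) := fun x => by
      constructor
      · intro hx0
        obtain ⟨w, hw⟩ := exists_dD_eq hf hx0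
        refine ⟨(w, x), ?_⟩
        show dD (A := A) f (p + 2) w + (x - proj (p + 1) x) = x
        rw [hw, add_sub_cancel]
      · rintro ⟨⟨a, b⟩, rfl⟩
        show dD (A := A) f (p + 1) (dD (A := A) f (p + 2) a + cD (A := A) (p + 1) b) = 0
        rw [map_add, dD_dD, zero_add]
        show D f (proj (p + 1) (cD (A := A) (p + 1) b)) = 0
        rw [proj_cD, map_zero]
    haveI := flat_coker_dD A f hf p
    have hexT := rTensor_exact_of_flat_coker φ (dD (A := A) f (p + 1)) hex A'
    have hgz : (dD (A := A) f (p + 1)).rTensor A' z = 0 := by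
      refine e.injective ?_
      rw [map_zero, dD, LinearMap.restrictScalars_comp, LinearMap.rTensor_comp, LinearMap.comp_apply, hD, hproj,
        D_proj_succ, hx, map_zero]
    obtain ⟨w, hw⟩ := (hexT z).1 hgz
    refine ⟨proj (p + 2) (e ((LinearMap.fst A _ _).rTensor A' w)), ?_⟩
    have h1 : ((proj (p + 1)).restrictScalars A) ∘ₗ φ =
        ((D f).restrictScalars A ∘ₗ (proj (p + 2)).restrictScalars A) ∘ₗ LinearMap.fst A _ _ := by
      refine LinearMap.ext fun ⟨a, b⟩ => ?_
      show proj (p + 1) (dD (A := A) f (p + 2) a + cD (A := A) (p + 1) b) = D f (proj (p + 2) a)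
      rw [map_add, proj_dD, proj_cD, add_zero]
      rfl
    rw [← hproj (p + 1), ← hw, ← LinearMap.rTensor_comp_apply, h1, LinearMap.rTensor_comp_apply,
      LinearMap.rTensor_comp_apply, hD, hproj]

end Kosz

end GorLib
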