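import Groth.Agent.GorLib.Fibres
import Groth.Agent.GorLib.KoszFlat

/-! # Gorenstein fibres of flat local complete intersections -/

set_option autoImplicit false

universe u

open TensorProduct KoszDetLib

namespace GorLib

variable {A P B K : Type u} [CommRing A] [CommRing P] [CommRing B] [CommRing K] [Algebra A P] [Algebra A B] [Algebra A K]

theorem exists_mul_mem_range (g : P) (z : Localization.Away g ⊗[A] K) :
    ∃ (m : ℕ) (a : P ⊗[A] K),
      z * (algebraMap P (Localization.Away g) (g ^ m) ⊗ₜ[A] 1) =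
        Algebra.TensorProduct.map (IsScalarTower.toAlgHom A P (Localization.Away g)) (AlgHom.id A K) a := by
  induction z using TensorProduct.induction_on with
  | zero => exact ⟨0, 0, by simp⟩
  | tmul l k =>
    obtain ⟨a, ⟨_, m, rfl⟩, rfl⟩ := IsLocalization.exists_mk'_eq (Submonoid.powers g) l
    refine ⟨m, a ⊗ₜ k, ?_⟩
    rw [Algebra.TensorProduct.tmul_mul_tmul, mul_one, Algebra.TensorProduct.map_tmul, AlgHom.coe_id, id,
      IsScalarTower.coe_toAlgHom', IsLocalization.mk'_spec]
  | add z w hz hw =>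
    obtain ⟨m, a, ha⟩ := hz
    obtain ⟨k, b, hb⟩ := hw
    refine ⟨m + k, a * ((g ^ k) ⊗ₜ 1) + b * ((g ^ m) ⊗ₜ 1), ?_⟩
    have hsplit : ∀ i j : ℕ, algebraMap P (Localization.Away g) (g ^ (i + j)) ⊗ₜ[A] (1 : K) =
        (algebraMap P (Localization.Away g) (g ^ i) ⊗ₜ[A] 1) * (algebraMap P (Localization.Away g) (g ^ j) ⊗ₜ[A] 1) :=
      fun i j => by rw [Algebra.TensorProduct.tmul_mul_tmul, mul_one, pow_add, map_mul]
    rw [add_mul, map_add, map_mul, map_mul, ← ha, ← hb]
    simp only [Algebra.TensorProduct.map_tmul, AlgHom.coe_id, id, IsScalarTower.coe_toAlgHom', map_one]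
    rw [hsplit m k]
    ring

/-- Fibres of a flat quotient by a Koszul regular ideal. -/
theorem gorensteinRing_tensor_of_locKR [Module.Flat A P] [Module.Flat A B] (σ : P →ₐ[A] B) (hσ : Function.Surjective σ)
    (h : KRLib.LocKR (RingHom.ker σ.toRingHom)) (hP : LocCoh.IsGorensteinRing (P ⊗[A] K)) :
    LocCoh.IsGorensteinRing (B ⊗[A] K) := by
  haveI := hP
  let σ' : P ⊗[A] K →ₐ[A] B ⊗[A] K := Algebra.TensorProduct.map σ (AlgHom.id A K)
  have hσ' : Function.Surjective σ' :=
    show Function.Surjective (TensorProduct.map σ.toLinearMap LinearMap.id) from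
      TensorProduct.map_surjective hσ Function.surjective_id
  haveI : IsNoetherianRing (B ⊗[A] K) := isNoetherianRing_of_surjective _ _ σ'.toRingHom hσ'
  refine { isGorensteinLocalRing_localization := fun q _ => gorenstein_localization_of_krGen hP σ'.toRingHom hσ' q ?_ }
  let Q' := q.comap σ'.toRingHom
  let Q := Q'.comap (Algebra.TensorProduct.includeLeftRingHom : P →+* P ⊗[A] K)
  have hle : RingHom.ker σ.toRingHom ≤ Q := fun x hx => by
    show σ' (x ⊗ₜ 1) ∈ q
    rw [Algebra.TensorProduct.map_tmul]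
    rw [show σ x = 0 from hx, zero_tmul]
    exact q.zero_mem
  obtain ⟨g, hg, n, f, hf, hspan⟩ := h Q inferInstance hle
  let L := Localization.Away g
  let T := Localization.AtPrime Q'
  have hgu : IsUnit ((algebraMap (P ⊗[A] K) T) (g ⊗ₜ 1)) := IsLocalization.map_units T (⟨g ⊗ₜ 1, hg⟩ : Q'.primeCompl)
  -- `L/(f)` is a localization of `B`
  haveI : Module.Flat A L := Module.Flat.trans A P L
  haveI : Module.Flat A (L ⧸ Ideal.span (Set.range f)) := by
    letI : Algebra P B := σ.toRingHom.toAlgebra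
    let ρ : L →+* Localization.Away (σ g) := IsLocalization.Away.map L (Localization.Away (σ g)) σ.toRingHom g
    have hρ : Function.Surjective ρ := KRLib.awayMap_surjective σ.toRingHom g L (Localization.Away (σ g)) hσ
    have hker : RingHom.ker ρ = Ideal.span (Set.range f) := (KRLib.ker_awayMap σ.toRingHom g L (Localization.Away (σ g))).trans hspan.symm
    haveI : Module.Flat A (Localization.Away (σ g)) := Module.Flat.trans A B _
    let ρ' : L →ₐ[A] Localization.Away (σ g) := { ρ with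
      commutes' := fun a => by
        show ρ (algebraMap A L a) = _
        rw [IsScalarTower.algebraMap_apply A P L, IsScalarTower.algebraMap_apply A B (Localization.Away (σ g))]
        exact (IsLocalization.map_eq _ _).trans (congrArg _ (σ.commutes a)) }
    exact Module.Flat.of_linearEquiv ((Ideal.quotientEquivAlgOfEq A hker.symm).trans
      (Ideal.quotientKerAlgEquivOfSurjective (f := ρ') hρ)).toLinearEquiv
  have hf' := isExactK_baseChange (A := A) K f hf
  -- the flat map `L ⊗ K → T`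
  let toT : P →ₐ[A] T := (IsScalarTower.toAlgHom A (P ⊗[A] K) T).comp Algebra.TensorProduct.includeLeft
  let lft : L →ₐ[A] T := IsLocalization.liftAlgHom (M := Submonoid.powers g) (f := toT) (by
    rintro ⟨_, m, rfl⟩
    show IsUnit (toT (g ^ m))
    rw [map_pow]
    exact hgu.pow m)
  let θ : L ⊗[A] K →ₐ[A] T := Algebra.TensorProduct.lift lft
    ((IsScalarTower.toAlgHom A (P ⊗[A] K) T).comp Algebra.TensorProduct.includeRight) fun _ _ => Commute.all _ _
  let ι : P ⊗[A] K →ₐ[A] L ⊗[A] K := Algebra.TensorProduct.map (IsScalarTower.toAlgHom A P L) (AlgHom.id A K)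
  have hθ : ∀ x, θ (ι x) = algebraMap (P ⊗[A] K) T x := by
    intro x
    induction x using TensorProduct.induction_on with
    | zero => simp
    | tmul p k =>
      show θ (algebraMap P L p ⊗ₜ k) = _
      rw [Algebra.TensorProduct.lift_tmul]
      show lft (algebraMap P L p) * algebraMap (P ⊗[A] K) T (1 ⊗ₜ k) = _
      rw [IsLocalization.liftAlgHom_apply, IsLocalization.lift_eq]
      show algebraMap (P ⊗[A] K) T (p ⊗ₜ 1) * _ = _
      rw [← map_mul, Algebra.TensorProduct.tmul_mul_tmul, mul_one, one_mul]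
    | add x y hx hy => simp only [map_add, hx, hy]
  letI : Algebra (L ⊗[A] K) T := θ.toRingHom.toAlgebra
  haveI : IsLocalization (Q'.primeCompl.map ι.toRingHom.toMonoidHom) T := by
    refine ⟨?_, fun z => ?_, @fun x y hxy => ?_⟩
    · rintro ⟨_, c, hc, rfl⟩
      show IsUnit (θ (ι c))
      rw [hθ]
      exact IsLocalization.map_units T (⟨c, hc⟩ : Q'.primeCompl)
    · obtain ⟨⟨a, s⟩, hs⟩ := IsLocalization.surj Q'.primeCompl z
      refine ⟨⟨ι a, ⟨ι s, s, s.2, rfl⟩⟩, ?_⟩
      show z * θ (ι s) = θ (ι a)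
      rw [hθ, hθ]; exact hs
    · obtain ⟨m, a, ha⟩ := exists_mul_mem_range (A := A) (K := K) g (x - y)
      have hg' : algebraMap P L (g ^ m) ⊗ₜ[A] (1 : K) = ι ((g ^ m) ⊗ₜ 1) := by
        show _ = algebraMap P L (g ^ m) ⊗ₜ[A] (1 : K)
        rfl
      have h0 : algebraMap (P ⊗[A] K) T a = 0 := by
        rw [← hθ]
        show θ (ι a) = 0
        rw [← ha, map_mul, map_sub]
        have : θ x = θ y := hxy
        rw [this, sub_self, zero_mul]
      obtain ⟨c, hc⟩ := (IsLocalization.map_eq_zero_iff Q'.primeCompl T a).1 h0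
      have hmem : (c : P ⊗[A] K) * ((g ^ m) ⊗ₜ 1) ∈ Q'.primeCompl := by
        refine Submonoid.mul_mem _ c.2 ?_
        have := pow_mem (S := Q'.primeCompl) (x := (g ⊗ₜ 1 : P ⊗[A] K)) hg m
        rwa [Algebra.TensorProduct.tmul_pow, one_pow] at this
      refine ⟨⟨_, _, hmem, rfl⟩, ?_⟩
      show ι ((c : P ⊗[A] K) * ((g ^ m) ⊗ₜ 1)) * x = ι ((c : P ⊗[A] K) * ((g ^ m) ⊗ₜ 1)) * y
      have h1 : ι (c : P ⊗[A] K) * ι a = 0 := by rw [← map_mul, hc, map_zero]
      rw [← sub_eq_zero, ← mul_sub, map_mul, mul_assoc, mul_comm (ι ((g ^ m) ⊗ₜ 1)), ← hg', ha]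
      exact h1
  haveI : Module.Flat (L ⊗[A] K) T := IsLocalization.flat T (Q'.primeCompl.map ι.toRingHom.toMonoidHom)
  refine ⟨n, fun i => θ (f i ⊗ₜ 1), KRLib.isExactK_of_flat hf', ?_⟩
  -- the ideals agree
  let inc : L →+* T := θ.toRingHom.comp Algebra.TensorProduct.includeLeftRingHom
  rw [show Ideal.span (Set.range fun i => θ (f i ⊗ₜ 1)) = (Ideal.span (Set.range f)).map inc by
    rw [Ideal.map_span, ← Set.range_comp]; rfl, hspan, Ideal.map_map]
  show _ = (RingHom.ker σ').map _
  rw [show RingHom.ker σ' = (RingHom.ker σ).map (Algebra.TensorProduct.includeLeft : P →ₐ[A] P ⊗[A] K) from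
    Algebra.TensorProduct.rTensor_ker σ hσ, show (RingHom.ker σ).map (Algebra.TensorProduct.includeLeft : P →ₐ[A] P ⊗[A] K) =
      (RingHom.ker σ).map (Algebra.TensorProduct.includeLeft : P →ₐ[A] P ⊗[A] K).toRingHom from rfl, Ideal.map_map]
  refine congrArg (fun φ => Ideal.map φ (RingHom.ker σ.toRingHom)) (RingHom.ext fun p => ?_)
  show θ (ι (p ⊗ₜ 1)) = algebraMap (P ⊗[A] K) T (p ⊗ₜ 1)
  exact hθ _

theorem gorensteinRing_fibre_of_flat_isLCI {A B : Type u} [CommRing A] [CommRing B] [Algebra A B] [Module.Flat A B]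
    (hl : LCI.IsLCI A B) (p : Ideal A) [p.IsPrime] : LocCoh.IsGorensteinRing (B ⊗[A] p.ResidueField) := by
  obtain ⟨-, n, f, hf, hker⟩ := hl
  refine gorensteinRing_tensor_of_locKR f hf ((KRLib.locKR_iff _).2 hker) ?_
  exact gorensteinRing_of_ringEquiv ((Algebra.TensorProduct.comm A (MvPolynomial (Fin n) A) p.ResidueField).toRingEquiv.trans
    (MvPolynomial.algebraTensorAlgEquiv A p.ResidueField).toRingEquiv) (gorensteinRing_mvPolynomial gorensteinRing_of_field n)

end GorLib
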