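import Groth.Agent.GorLib.Socle
import Groth.Agent.S0395
import Groth.Agent.CatLib.Flat
import Mathlib.RingTheory.Spectrum.Prime.RingHom
import Mathlib.LinearAlgebra.TensorProduct.Quotient

/-! # Gorenstein rings and flat local homomorphisms -/

set_option autoImplicit false

universe u

open IsLocalRing TensorProduct

namespace GorLib

section Colon

variable {A : Type u} [CommRing A] {B : Type u} [CommRing B] [Algebra A B] [Module.Flat A B]

/-- If `s ∉ I` and `m s ⊆ I` for a maximal ideal `m`, then `(IB : s) ⊆ mB` for flat `B`. -/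
theorem colon_mem {m : Ideal A} [m.IsMaximal] {I : Ideal A} {s : A} (hms : ∀ a ∈ m, a * s ∈ I) (hs : s ∉ I)
    {b : B} (hb : algebraMap A B s * b ∈ I.map (algebraMap A B)) : b ∈ m.map (algebraMap A B) := by
  let ψ : (A ⧸ m) →ₗ[A] (A ⧸ I) := Submodule.liftQ m (LinearMap.toSpanSingleton A (A ⧸ I) (Ideal.Quotient.mk I s))
    fun a ha => by
      show a • Ideal.Quotient.mk I s = 0
      rw [Algebra.smul_def, Ideal.Quotient.algebraMap_eq, ← map_mul]
      exact Ideal.Quotient.eq_zero_iff_mem.2 (hms a ha)
  have hψ : Function.Injective ψ := by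
    refine LinearMap.ker_eq_bot.1 (Submodule.ker_liftQ_eq_bot _ _ _ fun a ha => ?_)
    by_contra hna
    obtain ⟨c, d, hd, hcd⟩ := Ideal.IsMaximal.exists_inv (I := m) inferInstance hna
    refine hs ?_
    have h1 : a • Ideal.Quotient.mk I s = 0 := ha
    rw [Algebra.smul_def, Ideal.Quotient.algebraMap_eq, ← map_mul, Ideal.Quotient.eq_zero_iff_mem] at h1
    have : s = c * (a * s) + d * s := by rw [← mul_assoc, ← add_mul, hcd, one_mul]
    rw [this]
    exact I.add_mem (I.mul_mem_left c h1) (hms d hd)
  have hinj : Function.Injective (LinearMap.rTensor B ψ) :=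
    Module.Flat.rTensor_preserves_injective_linearMap ψ hψ
  have hψ1 : ψ (Ideal.Quotient.mk m 1) = Ideal.Quotient.mk I s := by
    show (1 : A) • Ideal.Quotient.mk I s = _
    rw [one_smul]
  have h0 : LinearMap.rTensor B ψ (Ideal.Quotient.mk m 1 ⊗ₜ[A] b) = 0 := by
    rw [LinearMap.rTensor_tmul, hψ1]
    refine (TensorProduct.quotTensorEquivQuotSMul B I).injective ?_
    rw [map_zero]
    show TensorProduct.quotTensorEquivQuotSMul B I (Ideal.Quotient.mk I s ⊗ₜ[A] b) = 0
    rw [show (Ideal.Quotient.mk I s : A ⧸ I) = s • (1 : A ⧸ I) by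
        rw [Algebra.smul_def, mul_one, Ideal.Quotient.algebraMap_eq],
      ← TensorProduct.smul_tmul', map_smul,
      TensorProduct.quotTensorEquivQuotSMul_mk_one_tmul, ← Submodule.Quotient.mk_smul,
      Submodule.Quotient.mk_eq_zero, Ideal.smul_top_eq_map, Submodule.restrictScalars_mem, Algebra.smul_def]
    exact hb
  have h1 : Ideal.Quotient.mk m 1 ⊗ₜ[A] b = 0 := hinj (h0.trans (map_zero _).symm)
  have h2 := congrArg (TensorProduct.quotTensorEquivQuotSMul B m) h1
  rw [map_zero, map_one (Ideal.Quotient.mk m), TensorProduct.quotTensorEquivQuotSMul_mk_one_tmul, Submodule.Quotient.mk_eq_zero,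
    Ideal.smul_top_eq_map, Submodule.restrictScalars_mem] at h2
  exact h2

/-- If `(0 : I) = (s)` in `A` with `I` finitely generated, then `(0 : IB) = sB` for flat `B`. -/
theorem exists_eq_mul_of_annihilated {I : Ideal A} (hI : I.FG) {s : A}
    (hs : ∀ x : A, (∀ a ∈ I, a * x = 0) ↔ x ∈ Ideal.span {s})
    {x : B} (hx : ∀ a ∈ I, algebraMap A B a * x = 0) : ∃ b : B, x = algebraMap A B s * b := by
  obtain ⟨k, a, ha⟩ := Submodule.fg_iff_exists_fin_generating_family.1 hI
  let φ : A →ₗ[A] (Fin k → A) := LinearMap.toSpanSingleton A _ a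
  let ψ : A →ₗ[A] A := LinearMap.toSpanSingleton A A s
  have hex : Function.Exact ψ φ := fun y => by
    constructor
    · intro hy
      have : y ∈ Ideal.span {s} := (hs y).1 fun c hc => by
        rw [← ha, Submodule.mem_span_range_iff_exists_fun] at hc
        obtain ⟨co, rfl⟩ := hc
        rw [Finset.sum_mul]
        refine Finset.sum_eq_zero fun i _ => ?_
        have hyi : y * a i = 0 := congrFun hy i
        rw [smul_eq_mul, mul_assoc, mul_comm (a i) y, hyi, mul_zero]
      obtain ⟨c, hc⟩ := Ideal.mem_span_singleton'.1 this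
      exact ⟨c, hc⟩
    · rintro ⟨c, rfl⟩
      funext i
      show (c • s) * a i = 0
      have := (hs s).2 (Ideal.mem_span_singleton_self s) (a i)
        (ha ▸ Submodule.subset_span (Set.mem_range_self i))
      rw [smul_eq_mul, mul_assoc, mul_comm s, this, mul_zero]
  have hexB := Module.Flat.lTensor_exact B hex
  have h0 : LinearMap.lTensor B φ (x ⊗ₜ[A] (1 : A)) = 0 := by
    refine (TensorProduct.piScalarRight A A B (Fin k)).injective ?_
    rw [map_zero, LinearMap.lTensor_tmul, TensorProduct.piScalarRight_apply, TensorProduct.piScalarRightHom_tmul]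
    funext i
    show ((1 : A) * a i) • x = 0
    rw [one_mul, Algebra.smul_def]
    exact hx _ (ha ▸ Submodule.subset_span (Set.mem_range_self i))
  obtain ⟨z, hz⟩ := (hexB _).1 h0
  refine ⟨TensorProduct.rid A B z, ?_⟩
  have h1 : ∀ w : B ⊗[A] A, TensorProduct.rid A B (LinearMap.lTensor B ψ w) =
      algebraMap A B s * TensorProduct.rid A B w := by
    intro w
    induction w using TensorProduct.induction_on with
    | zero => simp
    | tmul p q =>
      simp only [LinearMap.lTensor_tmul, TensorProduct.rid_tmul, ψ, LinearMap.toSpanSingleton_apply,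
        smul_eq_mul, Algebra.smul_def, map_mul]
      ring
    | add p q hp hq => simp only [map_add, hp, hq, mul_add]
  rw [← h1, hz, TensorProduct.rid_tmul, one_smul]

end Colon

section Main

variable (A : Type u) [CommRing A] [IsLocalRing A] [IsNoetherianRing A]
  (B : Type u) [CommRing B] [IsLocalRing B] [IsNoetherianRing B]
  [Algebra A B] [IsLocalHom (algebraMap A B)] [Module.Flat A B]

/-- The closed fibre. -/
abbrev Fib : Type u := B ⧸ (maximalIdeal A).map (algebraMap A B)

omit [IsNoetherianRing A] [IsNoetherianRing B] [Module.Flat A B] in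
theorem map_maximalIdeal_ne_top : (maximalIdeal A).map (algebraMap A B) ≠ ⊤ :=
  ne_top_of_le_ne_top (Ideal.IsMaximal.ne_top inferInstance) (IsLocalRing.map_maximalIdeal_le _)

theorem not_isUnit_mk {R : Type u} [CommRing R] [IsLocalRing R] {J : Ideal R} (hJ : J ≠ ⊤) {x : R}
    (hx : x ∈ maximalIdeal R) : ¬ IsUnit (Ideal.Quotient.mk J x) := by
  intro h
  obtain ⟨c, hc⟩ := h.exists_left_inv
  obtain ⟨c, rfl⟩ := Ideal.Quotient.mk_surjective c
  rw [← map_mul, ← map_one (Ideal.Quotient.mk J), Ideal.Quotient.eq] at hc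
  have h1 : (1 : R) ∈ maximalIdeal R := by
    have := (maximalIdeal R).sub_mem ((maximalIdeal R).mul_mem_left c hx) (le_maximalIdeal hJ hc)
    simpa using this
  exact (maximalIdeal.isMaximal R).ne_top ((Ideal.eq_top_iff_one _).2 h1)

theorem isLocalRing_quotient {R : Type u} [CommRing R] [IsLocalRing R] {J : Ideal R} (hJ : J ≠ ⊤) :
    IsLocalRing (R ⧸ J) :=
  haveI : Nontrivial (R ⧸ J) := Ideal.Quotient.nontrivial_iff.2 hJ
  IsLocalRing.of_surjective' (Ideal.Quotient.mk _) Ideal.Quotient.mk_surjective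

theorem maximalIdeal_quotient {R : Type u} [CommRing R] [IsLocalRing R] (J : Ideal R) [IsLocalRing (R ⧸ J)] :
    maximalIdeal (R ⧸ J) = (maximalIdeal R).map (Ideal.Quotient.mk J) :=
  (IsLocalRing.map_maximalIdeal_of_surjective _ Ideal.Quotient.mk_surjective).symm

omit [IsNoetherianRing B] in
theorem comap_maximalIdeal' (a : A) : algebraMap A B a ∈ maximalIdeal B ↔ a ∈ maximalIdeal A := by
  simp only [mem_maximalIdeal, mem_nonunits_iff, isUnit_map_iff]

variable {A B}

/-- The depth zero case. -/
theorem gorenstein_flat_depth_zero (hA : maximalIdeal A ∈ associatedPrimes A A)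
    [IsLocalRing (Fib A B)] (hF : maximalIdeal (Fib A B) ∈ associatedPrimes (Fib A B) (Fib A B)) :
    LocCoh.IsGorensteinLocalRing B ↔ (LocCoh.IsGorensteinLocalRing A ∧ LocCoh.IsGorensteinLocalRing (Fib A B)) := by
  have hsocA : ∀ {R : Type u} [CommRing R] [IsLocalRing R] [IsNoetherianRing R],
      maximalIdeal R ∈ associatedPrimes R R → LocCoh.IsGorensteinLocalRing R → IsArtinianRing R ∧ SocCyclic R := by
    intro R _ _ _ hm hG
    obtain ⟨n, hn⟩ := hG.exists_hasInjectiveDimensionLT
    have hinj := idlt_one_iff.1 (idlt_one_of_depth_zero hm hn)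
    haveI := krullDimLE_zero_of_injective hinj
    exact ⟨IsNoetherianRing.isArtinianRing_of_krullDimLE_zero, socCyclic_of_injective hinj hm⟩
  obtain ⟨hpA, s, hs⟩ := isAssociatedPrime_iff.1 hA
  have hs' : ∀ a, a ∈ maximalIdeal A ↔ a * s = 0 := fun a => by
    rw [hs, Submodule.mem_colon_singleton, Submodule.mem_bot, smul_eq_mul]
  obtain ⟨hpF, tb, ht⟩ := isAssociatedPrime_iff.1 hF
  obtain ⟨t, rfl⟩ := Ideal.Quotient.mk_surjective tb
  have ht' : ∀ b : B, b ∈ maximalIdeal B ↔ b * t ∈ (maximalIdeal A).map (algebraMap A B) := fun b => by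
    have h1 : Ideal.Quotient.mk _ b ∈ maximalIdeal (Fib A B) ↔ b * t ∈ (maximalIdeal A).map (algebraMap A B) := by
      rw [ht, Submodule.mem_colon_singleton, Submodule.mem_bot, smul_eq_mul, ← map_mul, Ideal.Quotient.eq_zero_iff_mem]
    rw [← h1, maximalIdeal_quotient]
    exact ⟨Ideal.mem_map_of_mem _, fun h => by
      have := Ideal.mem_comap.2 h
      rwa [Ideal.comap_map_of_surjective _ Ideal.Quotient.mk_surjective, ← RingHom.ker_eq_comap_bot, Ideal.mk_ker,
        sup_eq_left.2 (IsLocalRing.map_maximalIdeal_le _)] at this⟩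
  have hs0 : s ∉ (⊥ : Ideal A) := fun h => hpA.ne_top ((Ideal.eq_top_iff_one _).2 ((hs' 1).2 (by
    rw [Submodule.mem_bot] at h; rw [h, mul_zero])))
  have htm : t ∉ (maximalIdeal A).map (algebraMap A B) := fun h =>
    (maximalIdeal.isMaximal B).ne_top ((Ideal.eq_top_iff_one _).2 ((ht' 1).2 (by rwa [one_mul])))
  have colon0 : ∀ {b : B}, algebraMap A B s * b = 0 → b ∈ (maximalIdeal A).map (algebraMap A B) := fun {b} hb =>
    colon_mem (I := ⊥) (fun a ha => (Submodule.mem_bot A).2 ((hs' a).1 ha)) hs0 (by rw [hb]; exact zero_mem _)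
  have kill : ∀ {y : A}, (∀ a ∈ maximalIdeal A, a * y = 0) → ∀ {z : B},
      z ∈ (maximalIdeal A).map (algebraMap A B) → algebraMap A B y * z = 0 := by
    intro y hy z hz
    have hle : (maximalIdeal A).map (algebraMap A B) ≤ LinearMap.ker (LinearMap.mulLeft B (algebraMap A B y)) := by
      rw [Ideal.map_le_iff_le_comap]
      intro a ha
      show algebraMap A B y * algebraMap A B a = 0
      rw [← map_mul, mul_comm, hy a ha, map_zero]
    exact hle hz
  have hsoc : ∀ {y : A}, (∀ a ∈ maximalIdeal A, a * y = 0) → ∀ {z : B},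
      (∀ b ∈ maximalIdeal B, b * z ∈ (maximalIdeal A).map (algebraMap A B)) →
      ∀ b ∈ maximalIdeal B, b * (algebraMap A B y * z) = 0 := by
    intro y hy z hz b hb
    rw [mul_left_comm]
    exact kill hy (hz b hb)
  have hst : algebraMap A B s * t ≠ 0 := fun h => htm (colon0 h)
  have hstk : ∀ b ∈ maximalIdeal B, b * (algebraMap A B s * t) = 0 :=
    hsoc (fun a ha => (hs' a).1 ha) fun b hb => (ht' b).1 hb
  constructor
  · intro hG
    have hB : maximalIdeal B ∈ associatedPrimes B B := by
      refine isAssociatedPrime_iff.2 ⟨inferInstance, algebraMap A B s * t, ?_⟩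
      refine le_antisymm (fun b hb => by
        rw [Submodule.mem_colon_singleton, Submodule.mem_bot, smul_eq_mul]; exact hstk b hb) ?_
      exact le_maximalIdeal fun h => hst (by
        have : (1 : B) ∈ (⊥ : Submodule B B).colon {algebraMap A B s * t} := h ▸ Submodule.mem_top
        rwa [Submodule.mem_colon_singleton, Submodule.mem_bot, one_smul] at this)
    obtain ⟨hBart, w, hw0, hw, hwsoc⟩ := hsocA hB hG
    haveI := hBart
    obtain ⟨c, hc⟩ := Ideal.mem_span_singleton'.1 (hwsoc _ hstk)
    have hcu : IsUnit c := by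
      by_contra hcn
      exact hst (by rw [← hc, hw c hcn])
    have gen : ∀ x : B, (∀ b ∈ maximalIdeal B, b * x = 0) → ∃ β : B, x = β * (algebraMap A B s * t) := fun x hx => by
      obtain ⟨d, hd⟩ := Ideal.mem_span_singleton'.1 (hwsoc x hx)
      obtain ⟨cu, hcu'⟩ := hcu
      refine ⟨d * ↑cu⁻¹, ?_⟩
      rw [← hd, ← hc, ← hcu', mul_assoc, ← mul_assoc (↑cu⁻¹ : B), Units.inv_mul, one_mul]
    haveI : Module.FaithfullyFlat A B := Module.FaithfullyFlat.of_flat_of_isLocalHom
    haveI : Ring.KrullDimLE 0 A := Ring.KrullDimLE.mk₀ fun p hp => by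
      obtain ⟨q, hq⟩ := PrimeSpectrum.comap_surjective_of_faithfullyFlat (A := A) (B := B) ⟨p, hp⟩
      have hqm : q.asIdeal.IsMaximal := Ideal.isMaximal_of_isPrime q.asIdeal
      have : p = maximalIdeal A := by
        rw [show p = q.asIdeal.comap (algebraMap A B) from (congrArg PrimeSpectrum.asIdeal hq).symm,
          IsLocalRing.eq_maximalIdeal hqm]
        ext a
        exact comap_maximalIdeal' A B a
      exact this ▸ maximalIdeal.isMaximal A
    haveI : IsArtinianRing A := IsNoetherianRing.isArtinianRing_of_krullDimLE_zero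
    haveI : IsArtinianRing (Fib A B) :=
      Function.Surjective.isArtinianRing (f := Ideal.Quotient.mk ((maximalIdeal A).map (algebraMap A B)))
        Ideal.Quotient.mk_surjective
    refine ⟨gorenstein_iff_socCyclic.2 ⟨s, fun h => hs0 ((Submodule.mem_bot A).2 h), fun a ha => (hs' a).1 ha,
      fun s1 hs1 => ?_⟩, gorenstein_iff_socCyclic.2 ⟨Ideal.Quotient.mk _ t, ?_, ?_, ?_⟩⟩
    · by_contra hnot
      obtain ⟨β, hβ⟩ := gen _ (hsoc hs1 fun b hb => (ht' b).1 hb)
      refine htm (colon_mem (I := Ideal.span {s}) (s := s1) (fun a ha => by rw [hs1 a ha]; exact zero_mem _) hnot ?_)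
      rw [hβ, ← mul_assoc, mul_comm β, mul_assoc, Ideal.map_span, Set.image_singleton]
      exact Ideal.mem_span_singleton.2 (dvd_mul_right _ _)
    · exact fun h => htm (Ideal.Quotient.eq_zero_iff_mem.1 h)
    · intro y hy
      rw [maximalIdeal_quotient] at hy
      obtain ⟨b, hb, rfl⟩ := (Ideal.mem_map_iff_of_surjective _ Ideal.Quotient.mk_surjective).1 hy
      rw [← map_mul, Ideal.Quotient.eq_zero_iff_mem]
      exact (ht' b).1 hb
    · intro y hy
      obtain ⟨t1, rfl⟩ := Ideal.Quotient.mk_surjective y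
      have ht1 : ∀ b ∈ maximalIdeal B, b * t1 ∈ (maximalIdeal A).map (algebraMap A B) := fun b hb =>
        Ideal.Quotient.eq_zero_iff_mem.1 (by
          rw [map_mul]
          exact hy _ (by rw [maximalIdeal_quotient]; exact Ideal.mem_map_of_mem _ hb))
      obtain ⟨β, hβ⟩ := gen _ (hsoc (fun a ha => (hs' a).1 ha) ht1)
      have h1 : t1 - β * t ∈ (maximalIdeal A).map (algebraMap A B) := colon0 (by rw [mul_sub, hβ]; ring)
      exact Ideal.mem_span_singleton'.2 ⟨Ideal.Quotient.mk _ β, by rw [← map_mul]; exact (Ideal.Quotient.eq.2 h1).symm⟩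
  · rintro ⟨hGA, hGF⟩
    obtain ⟨hAart, sA, hsA0, hsA, hsAsoc⟩ := hsocA hA hGA
    obtain ⟨hFart, tF, htF0, htF, htFsoc⟩ := hsocA hF hGF
    haveI := hAart
    haveI := hFart
    haveI : Ring.KrullDimLE 0 B := Ring.KrullDimLE.mk₀ fun q hq => by
      have hqA : (maximalIdeal A).map (algebraMap A B) ≤ q := by
        rw [Ideal.map_le_iff_le_comap]
        haveI := Ideal.IsPrime.comap (algebraMap A B) (hK := hq)
        exact (IsLocalRing.eq_maximalIdeal (Ideal.isMaximal_of_isPrime (q.comap (algebraMap A B)))).ge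
      have hker : RingHom.ker (Ideal.Quotient.mk ((maximalIdeal A).map (algebraMap A B))) ≤ q := by rwa [Ideal.mk_ker]
      haveI hqF : (q.map (Ideal.Quotient.mk ((maximalIdeal A).map (algebraMap A B)))).IsPrime :=
        Ideal.map_isPrime_of_surjective Ideal.Quotient.mk_surjective hker
      have := Ideal.comap_map_of_surjective (Ideal.Quotient.mk ((maximalIdeal A).map (algebraMap A B)))
        Ideal.Quotient.mk_surjective q
      rw [← RingHom.ker_eq_comap_bot, sup_eq_left.2 hker] at this
      rw [← this]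
      haveI := Ideal.isMaximal_of_isPrime (q.map (Ideal.Quotient.mk ((maximalIdeal A).map (algebraMap A B))))
      exact Ideal.comap_isMaximal_of_surjective _ Ideal.Quotient.mk_surjective
    haveI : IsArtinianRing B := IsNoetherianRing.isArtinianRing_of_krullDimLE_zero
    refine gorenstein_iff_socCyclic.2 ⟨algebraMap A B s * t, hst, hstk, fun x hx => ?_⟩
    have hsspan : ∀ y : A, (∀ a ∈ maximalIdeal A, a * y = 0) ↔ y ∈ Ideal.span {s} := fun y => by
      constructor
      · intro hy
        obtain ⟨c, hc⟩ := Ideal.mem_span_singleton'.1 (hsAsoc s fun a ha => (hs' a).1 ha)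
        have hcu : IsUnit c := by
          by_contra hcn
          exact hs0 ((Submodule.mem_bot A).2 (by rw [← hc, hsA c hcn]))
        obtain ⟨d, rfl⟩ := Ideal.mem_span_singleton'.1 (hsAsoc y hy)
        rw [← hc, Ideal.span_singleton_mul_left_unit hcu]
        exact Ideal.mul_mem_left _ d (Ideal.mem_span_singleton_self sA)
      · intro hy a ha
        obtain ⟨d, rfl⟩ := Ideal.mem_span_singleton'.1 hy
        rw [mul_left_comm, (hs' a).1 ha, mul_zero]
    obtain ⟨b, rfl⟩ := exists_eq_mul_of_annihilated (IsNoetherian.noetherian _) hsspan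
      (x := x) fun a ha => hx _ ((comap_maximalIdeal' A B a).2 ha)
    have hsocF : ∀ z : B, (∀ c ∈ maximalIdeal B, c * z ∈ (maximalIdeal A).map (algebraMap A B)) →
        Ideal.Quotient.mk _ z ∈ Ideal.span {tF} := fun z hz => htFsoc _ fun y hy => by
      rw [maximalIdeal_quotient] at hy
      obtain ⟨c, hc, rfl⟩ := (Ideal.mem_map_iff_of_surjective _ Ideal.Quotient.mk_surjective).1 hy
      rw [← map_mul, Ideal.Quotient.eq_zero_iff_mem]
      exact hz c hc
    have hbsoc : ∀ c ∈ maximalIdeal B, c * b ∈ (maximalIdeal A).map (algebraMap A B) := fun c hc =>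
      colon0 (by rw [mul_left_comm]; exact hx c hc)
    obtain ⟨d, hd⟩ := Ideal.mem_span_singleton'.1 (hsocF b hbsoc)
    obtain ⟨e, he⟩ := Ideal.mem_span_singleton'.1 (hsocF t fun c hc => (ht' c).1 hc)
    have heu : IsUnit e := by
      by_contra hen
      exact htm (Ideal.Quotient.eq_zero_iff_mem.1 (by rw [← he, htF e hen]))
    obtain ⟨eu, rfl⟩ := heu
    obtain ⟨β, hβ⟩ := Ideal.Quotient.mk_surjective (d * ((eu⁻¹ : (Fib A B)ˣ) : Fib A B))
    have h1 : b - β * t ∈ (maximalIdeal A).map (algebraMap A B) := Ideal.Quotient.eq.1 (by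
      rw [map_mul, hβ, ← he, ← hd, mul_assoc, ← mul_assoc (↑eu⁻¹ : Fib A B), Units.inv_mul, one_mul])
    refine Ideal.mem_span_singleton'.2 ⟨β, ?_⟩
    have h2 := kill (fun a ha => (hs' a).1 ha) h1
    rw [mul_sub, sub_eq_zero] at h2
    rw [h2]; ring

end Main

theorem gorenstein_flat_iff_aux : ∀ (n : ℕ) (A : Type u) [CommRing A] [IsLocalRing A] [IsNoetherianRing A]
    (B : Type u) [CommRing B] [IsLocalRing B] [IsNoetherianRing B]
    [Algebra A B] [IsLocalHom (algebraMap A B)] [Module.Flat A B], ringKrullDim B < n →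
    (LocCoh.IsGorensteinLocalRing B ↔
      (LocCoh.IsGorensteinLocalRing A ∧ LocCoh.IsGorensteinLocalRing (Fib A B))) := by
  intro n
  induction n with
  | zero =>
    intro A _ _ _ B _ _ _ _ _ _ h
    exact absurd h (not_lt.2 ringKrullDim_nonneg_of_nontrivial)
  | succ n ih =>
    intro A _ _ _ B _ _ _ _ _ _ hdim
    haveI : IsLocalRing (Fib A B) := isLocalRing_quotient (map_maximalIdeal_ne_top A B)
    have hdim' : ∀ {g : B}, IsSMulRegular B g → g ∈ maximalIdeal B →
        ringKrullDim (B ⧸ Ideal.span {g}) < n := by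
      intro g hg hgm
      have h := ringKrullDim_quotient_span_singleton_succ_eq_ringKrullDim hg hgm
      rw [← h, Nat.cast_add, Nat.cast_one] at hdim
      exact lt_of_add_lt_add_right hdim
    by_cases hA : maximalIdeal A ∈ associatedPrimes A A
    · by_cases hF : maximalIdeal (Fib A B) ∈ associatedPrimes (Fib A B) (Fib A B)
      · exact gorenstein_flat_depth_zero hA hF
      · obtain ⟨gb, hgm, hg⟩ := CommAlgDim.exists_isSMulRegular_mem (M := Fib A B) (I := maximalIdeal (Fib A B))
          fun p hp hle => hF ((le_antisymm (le_maximalIdeal hp.isPrime.ne_top) hle) ▸ hp)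
        obtain ⟨g, rfl⟩ := Ideal.Quotient.mk_surjective gb
        have hgB : g ∈ maximalIdeal B := by
          by_contra hgn
          exact hgm ((not_not.1 hgn).map _)
        obtain ⟨hflat, hgreg⟩ := Groth.Agent.S0395.result (R := A) (S := B) g
          (mem_nonZeroDivisors_iff_left.2 fun y hy => hg (hy.trans (mul_zero _).symm))
        have hgreg' : IsSMulRegular B g := fun a b hab => by
          have : g * (a - b) = 0 := by rw [mul_sub]; exact sub_eq_zero.2 hab
          exact sub_eq_zero.1 ((mem_nonZeroDivisors_iff_left.1 hgreg) _ this)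
        have hgne : Ideal.span {g} ≠ ⊤ :=
          ne_top_of_le_ne_top (Ideal.IsMaximal.ne_top inferInstance) ((Ideal.span_singleton_le_iff_mem _).2 hgB)
        haveI : IsLocalRing (B ⧸ Ideal.span {g}) := isLocalRing_quotient hgne
        haveI : IsLocalHom (algebraMap A (B ⧸ Ideal.span {g})) := ⟨fun a ha => by
          by_contra han
          exact not_isUnit_mk hgne ((comap_maximalIdeal' A B a).2 han) ha⟩
        rw [gorenstein_quotient_iff hgreg' hgB, ih A (B ⧸ Ideal.span {g}) (hdim' hgreg' hgB),
          gorenstein_quotient_iff hg hgm]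
        refine and_congr_right fun _ => gorenstein_congr ?_
        refine (Ideal.quotEquivOfEq ?_).trans ((DoubleQuot.quotQuotEquivComm (Ideal.span {g})
          ((maximalIdeal A).map (algebraMap A B))).trans (Ideal.quotEquivOfEq ?_))
        · rw [Ideal.map_map]; rfl
        · rw [Ideal.map_span, Set.image_singleton]
    · obtain ⟨f, hfm, hf⟩ := CommAlgDim.exists_isSMulRegular_mem (M := A) (I := maximalIdeal A) fun p hp hle =>
        hA ((le_antisymm (le_maximalIdeal hp.isPrime.ne_top) hle) ▸ hp)
      have hfB : algebraMap A B f ∈ maximalIdeal B := (comap_maximalIdeal' A B f).2 hfm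
      have hfreg : IsSMulRegular B (algebraMap A B f) := hf.of_flat
      have hspan : (Ideal.span {f}).map (algebraMap A B) = Ideal.span {algebraMap A B f} := by
        rw [Ideal.map_span, Set.image_singleton]
      have hfne : Ideal.span {f} ≠ ⊤ :=
        ne_top_of_le_ne_top (Ideal.IsMaximal.ne_top inferInstance) ((Ideal.span_singleton_le_iff_mem _).2 hfm)
      have hfne' : (Ideal.span {f}).map (algebraMap A B) ≠ ⊤ := by
        rw [hspan]
        exact ne_top_of_le_ne_top (Ideal.IsMaximal.ne_top inferInstance) ((Ideal.span_singleton_le_iff_mem _).2 hfB)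
      haveI : IsLocalRing (A ⧸ Ideal.span {f}) := isLocalRing_quotient hfne
      haveI : IsLocalRing (B ⧸ (Ideal.span {f}).map (algebraMap A B)) := isLocalRing_quotient hfne'
      haveI : Module.Flat (A ⧸ Ideal.span {f}) (B ⧸ (Ideal.span {f}).map (algebraMap A B)) :=
        CatLib.flat_quotient _
      haveI : IsLocalHom (algebraMap (A ⧸ Ideal.span {f}) (B ⧸ (Ideal.span {f}).map (algebraMap A B))) := ⟨fun x hx => by
        obtain ⟨a, rfl⟩ := Ideal.Quotient.mk_surjective x
        by_contra han
        refine not_isUnit_mk hfne' ((comap_maximalIdeal' A B a).2 fun h => han (h.map _)) ?_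
        exact hx⟩
      have hd : ringKrullDim (B ⧸ (Ideal.span {f}).map (algebraMap A B)) < n := by
        rw [ringKrullDim_eq_of_ringEquiv (Ideal.quotEquivOfEq hspan)]
        exact hdim' hfreg hfB
      rw [gorenstein_quotient_iff hfreg hfB, ← gorenstein_congr (Ideal.quotEquivOfEq hspan),
        ih (A ⧸ Ideal.span {f}) (B ⧸ (Ideal.span {f}).map (algebraMap A B)) hd, gorenstein_quotient_iff hf hfm]
      refine and_congr_right fun _ => gorenstein_congr ?_
      refine (Ideal.quotEquivOfEq ?_).trans (DoubleQuot.quotQuotEquivQuotOfLE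
        (Ideal.map_mono ((Ideal.span_singleton_le_iff_mem _).2 hfm)))
      rw [maximalIdeal_quotient, Ideal.map_map, Ideal.map_map]
      rfl

theorem gorenstein_flat_iff (A : Type u) [CommRing A] [IsLocalRing A] [IsNoetherianRing A]
    (B : Type u) [CommRing B] [IsLocalRing B] [IsNoetherianRing B]
    [Algebra A B] [IsLocalHom (algebraMap A B)] [Module.Flat A B] :
    LocCoh.IsGorensteinLocalRing B ↔
      (LocCoh.IsGorensteinLocalRing A ∧ LocCoh.IsGorensteinLocalRing (Fib A B)) := by
  obtain ⟨n, hn⟩ : ∃ n : ℕ, ringKrullDim B < n := by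
    have h := ringKrullDim_lt_top (R := B)
    generalize ringKrullDim B = d at h
    induction d with
    | bot => exact ⟨0, WithBot.bot_lt_coe _⟩
    | coe d =>
      induction d with
      | top => exact absurd h (lt_irrefl _)
      | coe d => exact ⟨d + 1, by exact_mod_cast Nat.lt_succ_self d⟩
  exact gorenstein_flat_iff_aux n A B hn

end GorLib
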