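import Groth.Agent.GorLib.ResField
import Mathlib.Algebra.Module.Torsion.Basic
import Mathlib.Algebra.Module.Torsion.Free
import Mathlib.Algebra.Category.ModuleCat.EnoughInjectives
import Mathlib.Algebra.Category.ModuleCat.Projective
import Mathlib.Algebra.Homology.DerivedCategory.Ext.EnoughProjectives
import Mathlib.Algebra.Homology.DerivedCategory.Ext.EnoughInjectives

/-! # Injective dimension and division by a regular element -/

set_option autoImplicit false

universe u

open CategoryTheory IsLocalRing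

namespace GorLib

variable {R : Type u} [CommRing R]

/-- The injective dimension bound. -/
abbrev IDLT (R : Type u) [CommRing R] (M : Type u) [AddCommGroup M] [Module R M] (n : ℕ) : Prop :=
  HasInjectiveDimensionLT (ModuleCat.of R M) n

theorem idlt_one_iff {M : Type u} [AddCommGroup M] [Module R M] : IDLT R M 1 ↔ Module.Injective R M :=
  injective_iff_hasInjectiveDimensionLT_one.symm.trans (Module.injective_iff_injective_object R M).symm

theorem idlt_mono {M : Type u} [AddCommGroup M] [Module R M] {n m : ℕ} (h : n ≤ m) (hM : IDLT R M n) :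
    IDLT R M m :=
  haveI := hM
  hasInjectiveDimensionLT_of_ge _ n m h

theorem idlt_of_equiv {M N : Type u} [AddCommGroup M] [Module R M] [AddCommGroup N] [Module R N] (e : M ≃ₗ[R] N)
    {n : ℕ} (hM : IDLT R M n) : IDLT R N n :=
  haveI := hM
  hasInjectiveDimensionLT_of_iso e.toModuleIso n

/-- A linear map over a ring is linear over a quotient of it. -/
def overQuot (I : Ideal R) {M N : Type u} [AddCommGroup M] [Module R M] [Module (R ⧸ I) M] [IsScalarTower R (R ⧸ I) M]
    [AddCommGroup N] [Module R N] [Module (R ⧸ I) N] [IsScalarTower R (R ⧸ I) N] (φ : M →ₗ[R] N) :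
    M →ₗ[R ⧸ I] N where
  toFun := φ
  map_add' := map_add φ
  map_smul' b m := by
    obtain ⟨r, rfl⟩ := Ideal.Quotient.mk_surjective b
    show φ (algebraMap R (R ⧸ I) r • m) = algebraMap R (R ⧸ I) r • φ m
    rw [algebraMap_smul, algebraMap_smul, map_smul]

/-- An injective envelope as a linear map. -/
theorem exists_injective_embedding (R : Type u) [CommRing R] (M : Type u) [AddCommGroup M] [Module R M] :
    ∃ (E : Type u) (_ : AddCommGroup E) (_ : Module R E) (_ : Module.Injective R E) (ι : M →ₗ[R] E),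
      Function.Injective ι :=
  ⟨_, inferInstance, inferInstance,
    Module.injective_module_of_injective_object R (Injective.under (ModuleCat.of R M) : ModuleCat R) (inj := Injective.injective_under _),
    (Injective.ι (ModuleCat.of R M)).hom, (ModuleCat.mono_iff_injective _).1 inferInstance⟩

theorem idlt_ses₁ {M₁ M₂ M₃ : Type u} [AddCommGroup M₁] [Module R M₁] [AddCommGroup M₂] [Module R M₂]
    [AddCommGroup M₃] [Module R M₃] (f : M₁ →ₗ[R] M₂) (g : M₂ →ₗ[R] M₃) (hf : Function.Injective f)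
    (hg : Function.Surjective g) (h : Function.Exact f g) {n : ℕ} (h₂ : IDLT R M₂ (n + 1)) (h₃ : IDLT R M₃ n) :
    IDLT R M₁ (n + 1) :=
  (exists_ses f g hf hg h).hasInjectiveDimensionLT_X₁ n h₃ h₂

theorem idlt_ses₃ {M₁ M₂ M₃ : Type u} [AddCommGroup M₁] [Module R M₁] [AddCommGroup M₂] [Module R M₂]
    [AddCommGroup M₃] [Module R M₃] (f : M₁ →ₗ[R] M₂) (g : M₂ →ₗ[R] M₃) (hf : Function.Injective f)
    (hg : Function.Surjective g) (h : Function.Exact f g) {n : ℕ} (h₁ : IDLT R M₁ (n + 1)) (h₂ : IDLT R M₂ n) :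
    IDLT R M₃ n :=
  (exists_ses f g hf hg h).hasInjectiveDimensionLT_X₃ n h₂ h₁

/-- The cokernel of an injective embedding drops the dimension. -/
theorem idlt_quotient_range {M E : Type u} [AddCommGroup M] [Module R M] [AddCommGroup E] [Module R E]
    [hE : Module.Injective R E] (ι : M →ₗ[R] E) (hι : Function.Injective ι) {n : ℕ} (h : IDLT R M (n + 2)) :
    IDLT R (E ⧸ LinearMap.range ι) (n + 1) :=
  idlt_ses₃ ι (LinearMap.range ι).mkQ hι (Submodule.mkQ_surjective _) (LinearMap.exact_map_mkQ_range ι) h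
    (idlt_mono (by omega) (idlt_one_iff.2 hE))

variable (f : R)

lemma mk_smul_eq_zero {X : Type u} [AddCommGroup X] [Module R X] [Module (R ⧸ Ideal.span {f}) X] [IsScalarTower R (R ⧸ Ideal.span {f}) X] (x : X) :
    f • x = 0 := by
  rw [← algebraMap_smul (R ⧸ Ideal.span {f}) f x, Ideal.Quotient.algebraMap_eq,
    Ideal.Quotient.eq_zero_iff_mem.2 (Ideal.mem_span_singleton_self f), zero_smul]

/-- Injectives over `R/f` have injective dimension at most one over `R`. -/
theorem idlt_two_of_injective_quot (hf : IsSMulRegular R f) {J : Type u} [AddCommGroup J] [Module R J] [Module (R ⧸ Ideal.span {f}) J]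
    [IsScalarTower R (R ⧸ Ideal.span {f}) J] (hJ : Module.Injective (R ⧸ Ideal.span {f}) J) : IDLT R J 2 := by
  refine ProjLib.hasInjectiveDimensionLT_of_cyclic 1 _ fun I => ?_
  have hI : ExtVan R I J 1 := by
    refine ⟨fun a b => ?_⟩
    suffices ∀ c : Abelian.Ext (ModuleCat.of R I) (ModuleCat.of R J) 1, c = 0 by rw [this a, this b]
    intro c
    obtain ⟨E', _, _, hE', ι, hι⟩ := exists_injective_embedding R J
    let π := (LinearMap.range ι).mkQ
    have hπ : Function.Surjective π := Submodule.mkQ_surjective _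
    have hS := exists_ses ι π hι hπ (LinearMap.exact_map_mkQ_range ι)
    haveI : Injective (ModuleCat.of R E') := (Module.injective_iff_injective_object R E').1 hE'
    obtain ⟨y, hy⟩ := Abelian.Ext.covariant_sequence_exact₁ (ModuleCat.of R I) hS c
      (Abelian.Ext.eq_zero_of_injective _) (n₀ := 0) rfl
    obtain ⟨g, rfl⟩ := (Abelian.Ext.mk₀_bijective _ _).2 y
    let Y : Submodule R (E' × I) := LinearMap.eqLocus (π ∘ₗ LinearMap.fst R E' I) (g.hom ∘ₗ LinearMap.snd R E' I)
    have hYmem : ∀ p : E' × I, p ∈ Y ↔ π p.1 = g.hom p.2 := fun p => Iff.rfl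
    let j : J →ₗ[R] Y := (LinearMap.inl R E' I ∘ₗ ι).codRestrict Y fun x => by
      rw [hYmem]
      show π (ι x) = g.hom 0
      rw [map_zero]
      exact (Submodule.Quotient.mk_eq_zero _).2 ⟨x, rfl⟩
    let mk : Y →ₗ[R] Y ⧸ (Ideal.span {f} • (⊤ : Submodule R Y)) := Submodule.mkQ _
    let jB : J →ₗ[(R ⧸ Ideal.span {f})] Y ⧸ (Ideal.span {f} • (⊤ : Submodule R Y)) := overQuot _ (mk ∘ₗ j)
    have hjB : Function.Injective jB := by
      refine (injective_iff_map_eq_zero jB).2 fun x hx => ?_
      have hx' : j x ∈ Ideal.span {f} • (⊤ : Submodule R Y) := (Submodule.Quotient.mk_eq_zero _).1 hx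
      rw [Submodule.ideal_span_singleton_smul, Submodule.mem_smul_pointwise_iff_exists] at hx'
      obtain ⟨⟨⟨e, i⟩, hy⟩, -, hfy⟩ := hx'
      have h1 := congrArg (fun q : Y => q.1.1) hfy
      have h2 := congrArg (fun q : Y => (q.1.2 : R)) hfy
      have hi : (i : R) = 0 := hf (show f • (i : R) = f • 0 by rw [smul_zero]; exact h2)
      have hπe : π e = 0 := by
        have := (hYmem _).1 hy
        rw [show i = 0 from Subtype.ext hi, map_zero] at this
        exact this
      obtain ⟨x', rfl⟩ := (Submodule.Quotient.mk_eq_zero _).1 hπe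
      have h3 : ι (f • x') = ι x := by rw [map_smul]; exact h1
      rw [← hι h3, mk_smul_eq_zero f x']
    obtain ⟨r, hr⟩ := hJ.out jB hjB LinearMap.id
    let r' : Y →ₗ[R] J := (r.restrictScalars R) ∘ₗ mk
    have hr' : ∀ x, r' (j x) = x := hr
    let H : Y →ₗ[R] E' := LinearMap.fst R E' I ∘ₗ Y.subtype - ι ∘ₗ r'
    let s : Y →ₗ[R] I := LinearMap.snd R E' I ∘ₗ Y.subtype
    have hs : Function.Surjective s := fun i => by
      obtain ⟨e, he⟩ := hπ (g.hom i)
      exact ⟨⟨(e, i), (hYmem _).2 he⟩, rfl⟩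
    have hker : LinearMap.ker s ≤ LinearMap.ker H := by
      rintro ⟨⟨e, i⟩, hy⟩ (hi : i = 0)
      subst hi
      have hy' : π e = 0 := ((hYmem _).1 hy).trans (map_zero _)
      obtain ⟨x', rfl⟩ := (Submodule.Quotient.mk_eq_zero _).1 hy'
      show ι x' - ι (r' _) = 0
      rw [show (⟨(ι x', 0), hy⟩ : Y) = j x' from rfl, hr', sub_self]
    let h : I →ₗ[R] E' := ((LinearMap.ker s).liftQ H hker) ∘ₗ (s.quotKerEquivOfSurjective hs).symm.toLinearMap
    have hh : ∀ y, h (s y) = H y := fun y => by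
      show (LinearMap.ker s).liftQ H hker ((s.quotKerEquivOfSurjective hs).symm (s y)) = H y
      rw [show (s.quotKerEquivOfSurjective hs).symm (s y) = Submodule.Quotient.mk y by
        rw [LinearEquiv.symm_apply_eq]; rfl]
      rfl
    have hg : g = ModuleCat.ofHom h ≫ ModuleCat.ofHom π := by
      refine ModuleCat.hom_ext (LinearMap.ext fun i => ?_)
      obtain ⟨y, rfl⟩ := hs i
      show g.hom (s y) = π (h (s y))
      rw [hh]
      show g.hom y.1.2 = π (y.1.1 - ι (r' y))
      rw [map_sub, (hYmem _).1 y.2, show π (ι (r' y)) = 0 from (Submodule.Quotient.mk_eq_zero _).2 ⟨_, rfl⟩,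
        sub_zero]
    rw [← hy, hg, ← Abelian.Ext.mk₀_comp_mk₀, Abelian.Ext.comp_assoc_of_second_deg_zero, hS.comp_extClass,
      Abelian.Ext.comp_zero]
  refine ⟨fun a b => ?_⟩
  suffices ∀ c : Abelian.Ext (ModuleCat.of R (R ⧸ I)) (ModuleCat.of R J) 2, c = 0 by rw [this a, this b]
  intro c
  haveI : Projective (ModuleCat.of R R) := (IsProjective.iff_projective R).1 inferInstance
  have hS := exists_ses I.subtype I.mkQ (Submodule.injective_subtype I) (Submodule.mkQ_surjective I)
    (LinearMap.exact_subtype_mkQ I)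
  obtain ⟨z, hz⟩ := Abelian.Ext.contravariant_sequence_exact₃ hS (ModuleCat.of R J) c
    (Abelian.Ext.eq_zero_of_projective _) (n₀ := 1) rfl
  rw [← hz, @Subsingleton.elim _ hI z 0, Abelian.Ext.comp_zero]

/-- Restriction of scalars from `R/f` raises the injective dimension by at most one. -/
theorem idlt_of_idlt_quot (hf : IsSMulRegular R f) : ∀ (n : ℕ) (X : Type u) [AddCommGroup X] [Module R X]
    [Module (R ⧸ Ideal.span {f}) X] [IsScalarTower R (R ⧸ Ideal.span {f}) X], IDLT (R ⧸ Ideal.span {f}) X (n + 1) → IDLT R X (n + 2) := by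
  intro n
  induction n with
  | zero => intro X _ _ _ _ h; exact idlt_two_of_injective_quot f hf (idlt_one_iff.1 h)
  | succ n ih =>
    intro X _ _ _ _ h
    obtain ⟨E, _, _, hE, ι, hι⟩ := exists_injective_embedding (R ⧸ Ideal.span {f}) X
    letI : Module R E := Module.compHom E (algebraMap R (R ⧸ Ideal.span {f}))
    haveI : IsScalarTower R (R ⧸ Ideal.span {f}) E := IsScalarTower.of_algebraMap_smul fun _ _ => rfl
    have hQ := ih (E ⧸ LinearMap.range ι) (idlt_quotient_range ι hι h)
    have hE2 : IDLT R E (n + 2 + 1) := idlt_mono (by omega) (idlt_two_of_injective_quot f hf hE)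
    let ι' : X →ₗ[R] E := ι.restrictScalars R
    let π' : E →ₗ[R] E ⧸ LinearMap.range ι := (LinearMap.range ι).mkQ.restrictScalars R
    have hι' : Function.Injective ι' := hι
    have hπ' : Function.Surjective π' := Submodule.mkQ_surjective (LinearMap.range ι)
    have hex : Function.Exact ι' π' := LinearMap.exact_map_mkQ_range ι
    exact idlt_ses₁ ι' π' hι' hπ' hex hE2 hQ

/-- The `f`-torsion as a module over `R/f`. -/
abbrev tors (X : Type u) [AddCommGroup X] [Module R X] : Submodule R X := Submodule.torsionBy R X f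

instance {X : Type u} [AddCommGroup X] [Module R X] : IsScalarTower R (R ⧸ Ideal.span {f}) (tors f X) :=
  IsScalarTower.of_algebraMap_smul fun r x => Submodule.torsionBy.mk_ideal_smul f r x

/-- Torsion of an injective is injective over `R/f`. -/
theorem injective_tors {E : Type u} [AddCommGroup E] [Module R E] (hE : Module.Injective R E) :
    Module.Injective (R ⧸ Ideal.span {f}) (tors f E) := by
  refine ⟨fun X Y _ _ _ _ i hi g => ?_⟩
  letI : Module R X := Module.compHom X (algebraMap R (R ⧸ Ideal.span {f}))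
  letI : Module R Y := Module.compHom Y (algebraMap R (R ⧸ Ideal.span {f}))
  haveI : IsScalarTower R (R ⧸ Ideal.span {f}) X := IsScalarTower.of_algebraMap_smul fun _ _ => rfl
  haveI : IsScalarTower R (R ⧸ Ideal.span {f}) Y := IsScalarTower.of_algebraMap_smul fun _ _ => rfl
  obtain ⟨h, hh⟩ := hE.out (i.restrictScalars R) hi ((tors f E).subtype ∘ₗ g.restrictScalars R)
  let h' : Y →ₗ[R] tors f E := h.codRestrict _ fun y => by
    rw [Submodule.mem_torsionBy_iff, ← map_smul, mk_smul_eq_zero f y, map_zero]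
  exact ⟨overQuot _ h', fun x => Subtype.ext (hh x)⟩

theorem divisible_of_injective (hf : IsSMulRegular R f) {E : Type u} [AddCommGroup E] [Module R E]
    (hE : Module.Injective R E) (e : E) : ∃ e', f • e' = e := by
  obtain ⟨h, hh⟩ := hE.out (LinearMap.lsmul R R f) hf (LinearMap.toSpanSingleton R E e)
  refine ⟨h 1, ?_⟩
  have := hh 1
  simpa [← map_smul] using this

/-- For divisible modules the torsion has no larger injective dimension. -/
theorem idlt_tors (hf : IsSMulRegular R f) : ∀ (n : ℕ) (X : Type u) [AddCommGroup X] [Module R X],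
    (∀ x : X, ∃ x', f • x' = x) → IDLT R X (n + 1) → IDLT (R ⧸ Ideal.span {f}) (tors f X) (n + 1)
  | 0, X, _, _, _, h => idlt_one_iff.2 (injective_tors f (idlt_one_iff.1 h))
  | n + 1, X, _, _, hdiv, h => by
    obtain ⟨E, _, _, hE, ι, hι⟩ := exists_injective_embedding R X
    let π := (LinearMap.range ι).mkQ
    have hπ : Function.Surjective π := Submodule.mkQ_surjective _
    have hQ := idlt_tors hf n (E ⧸ LinearMap.range ι) (fun q => by
      obtain ⟨e, rfl⟩ := hπ q
      obtain ⟨e', rfl⟩ := divisible_of_injective f hf hE e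
      exact ⟨π e', (map_smul π f e').symm⟩) (idlt_quotient_range ι hι h)
    let ιB : tors f X →ₗ[(R ⧸ Ideal.span {f})] tors f E := overQuot _ ((ι ∘ₗ (tors f X).subtype).codRestrict _ fun x => by
      rw [Submodule.mem_torsionBy_iff, LinearMap.comp_apply, ← map_smul]
      exact (congrArg ι ((Submodule.mem_torsionBy_iff f _).1 x.2)).trans (map_zero ι))
    let πB : tors f E →ₗ[(R ⧸ Ideal.span {f})] tors f (E ⧸ LinearMap.range ι) :=
      overQuot _ ((π ∘ₗ (tors f E).subtype).codRestrict _ fun x => by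
        rw [Submodule.mem_torsionBy_iff, LinearMap.comp_apply, ← map_smul]
        exact (congrArg π ((Submodule.mem_torsionBy_iff f _).1 x.2)).trans (map_zero π))
    refine idlt_ses₁ ιB πB (fun a b hab => Subtype.ext (hι (congrArg Subtype.val hab))) ?_ ?_
      (idlt_mono (by omega) (idlt_one_iff.2 (injective_tors f hE))) hQ
    · rintro ⟨q, hq⟩
      obtain ⟨e, rfl⟩ := hπ q
      rw [Submodule.mem_torsionBy_iff, ← map_smul] at hq
      obtain ⟨x, hx⟩ := (Submodule.Quotient.mk_eq_zero _).1 hq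
      obtain ⟨x', rfl⟩ := hdiv x
      refine ⟨⟨e - ι x', ?_⟩, Subtype.ext ?_⟩
      · rw [Submodule.mem_torsionBy_iff, smul_sub, ← hx, map_smul, sub_self]
      · show π (e - ι x') = π e
        rw [map_sub, show π (ι x') = 0 from (Submodule.Quotient.mk_eq_zero _).2 ⟨_, rfl⟩, sub_zero]
    · rintro ⟨e, he⟩
      constructor
      · intro h0
        obtain ⟨x, hx⟩ := (Submodule.Quotient.mk_eq_zero _).1 (congrArg Subtype.val h0)
        refine ⟨⟨x, (Submodule.mem_torsionBy_iff f x).2 (hι ?_)⟩, Subtype.ext hx⟩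
        rw [map_smul, map_zero, hx]
        exact (Submodule.mem_torsionBy_iff f e).1 he
      · rintro ⟨x, hx⟩
        refine Subtype.ext ?_
        show π e = 0
        have hxe : ι x = e := congrArg Subtype.val hx
        rw [← hxe]
        exact (Submodule.Quotient.mk_eq_zero _).2 ⟨_, rfl⟩

/-- Dividing by a regular element lowers the injective dimension. -/
theorem idlt_quot_of_idlt (hf : IsSMulRegular R f) {n : ℕ} (h : IDLT R R (n + 2)) : IDLT (R ⧸ Ideal.span {f}) (R ⧸ Ideal.span {f}) (n + 1) := by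
  obtain ⟨E, _, _, hE, ι, hι⟩ := exists_injective_embedding R R
  let π := (LinearMap.range ι).mkQ
  have hπ : Function.Surjective π := Submodule.mkQ_surjective _
  have hQ := idlt_tors f hf n (E ⧸ LinearMap.range ι) (fun q => by
      obtain ⟨e, rfl⟩ := hπ q
      obtain ⟨e', rfl⟩ := divisible_of_injective f hf hE e
      exact ⟨π e', (map_smul π f e').symm⟩) (idlt_quotient_range ι hι h)
  let P : Submodule R E := (LinearMap.range ι).comap (f • LinearMap.id : E →ₗ[R] E)
  let μ : P →ₗ[R] R := (LinearEquiv.ofInjective ι hι).symm.toLinearMap ∘ₗ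
    ((f • LinearMap.id : E →ₗ[R] E) ∘ₗ P.subtype).codRestrict (LinearMap.range ι) fun e =>
      Submodule.mem_comap.1 (show (e : E) ∈ Submodule.comap (f • LinearMap.id : E →ₗ[R] E) (LinearMap.range ι) from e.2)
  have hμ : ∀ e : P, ι (μ e) = f • (e : E) := fun e =>
    (LinearEquiv.ofInjective_apply (h := hι) ι (μ e)).symm.trans
      (congrArg Subtype.val ((LinearEquiv.ofInjective ι hι).apply_symm_apply _))
  let ρ : P →ₗ[R] tors f (E ⧸ LinearMap.range ι) := (π ∘ₗ P.subtype).codRestrict _ fun e => by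
    rw [Submodule.mem_torsionBy_iff, LinearMap.comp_apply, ← map_smul]
    exact (Submodule.Quotient.mk_eq_zero _).2 e.2
  have hρ : Function.Surjective ρ := by
    rintro ⟨q, hq⟩
    obtain ⟨e, rfl⟩ := hπ q
    rw [Submodule.mem_torsionBy_iff, ← map_smul] at hq
    exact ⟨⟨e, (show f • e ∈ LinearMap.range ι from (Submodule.Quotient.mk_eq_zero _).1 hq)⟩, rfl⟩
  let ψ : P →ₗ[R] (R ⧸ Ideal.span {f}) := (Submodule.mkQ (Ideal.span {f})) ∘ₗ μ
  have hker : LinearMap.ker ρ ≤ LinearMap.ker ψ := by
    intro e he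
    obtain ⟨x, hx⟩ := (Submodule.Quotient.mk_eq_zero _).1 (congrArg Subtype.val (LinearMap.mem_ker.1 he))
    have : μ e = f * x := hι (by rw [hμ, ← smul_eq_mul, map_smul, hx]; rfl)
    show Ideal.Quotient.mk (Ideal.span {f}) (μ e) = 0
    rw [Ideal.Quotient.eq_zero_iff_mem, this]
    exact Ideal.mul_mem_right _ _ (Ideal.mem_span_singleton_self f)
  let δ : tors f (E ⧸ LinearMap.range ι) →ₗ[R] (R ⧸ Ideal.span {f}) :=
    ((LinearMap.ker ρ).liftQ ψ hker) ∘ₗ (ρ.quotKerEquivOfSurjective hρ).symm.toLinearMap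
  have hδ : ∀ e, δ (ρ e) = ψ e := fun e => by
    show (LinearMap.ker ρ).liftQ ψ hker ((ρ.quotKerEquivOfSurjective hρ).symm (ρ e)) = ψ e
    rw [show (ρ.quotKerEquivOfSurjective hρ).symm (ρ e) = Submodule.Quotient.mk e by
      rw [LinearEquiv.symm_apply_eq]; rfl]
    rfl
  let πB : tors f E →ₗ[(R ⧸ Ideal.span {f})] tors f (E ⧸ LinearMap.range ι) :=
      overQuot _ ((π ∘ₗ (tors f E).subtype).codRestrict _ fun x => by
        rw [Submodule.mem_torsionBy_iff, LinearMap.comp_apply, ← map_smul]
        exact (congrArg π ((Submodule.mem_torsionBy_iff f _).1 x.2)).trans (map_zero π))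
  have hπB : Function.Injective πB := by
    refine (injective_iff_map_eq_zero πB).2 fun e he => Subtype.ext ?_
    obtain ⟨x, hx⟩ := (Submodule.Quotient.mk_eq_zero _).1 (congrArg Subtype.val he)
    have hfx : f • x = (0 : R) := hι (by
      rw [map_smul, map_zero, hx]; exact (Submodule.mem_torsionBy_iff f _).1 e.2)
    have hx0 : x = 0 := hf (hfx.trans (smul_zero f).symm)
    rw [hx0, map_zero] at hx
    exact hx.symm
  refine idlt_ses₃ πB (overQuot _ δ) hπB ?_ ?_
    (idlt_mono (by omega) (idlt_one_iff.2 (injective_tors f hE))) hQ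
  · intro b
    obtain ⟨r, rfl⟩ := Ideal.Quotient.mk_surjective b
    obtain ⟨e, he⟩ := divisible_of_injective f hf hE (ι r)
    refine ⟨ρ ⟨e, ⟨r, he.symm⟩⟩, (hδ _).trans ?_⟩
    show Ideal.Quotient.mk _ (μ ⟨e, _⟩) = Ideal.Quotient.mk _ r
    congr 1
    exact hι ((hμ _).trans he)
  · intro q
    obtain ⟨e, rfl⟩ := hρ q
    show δ (ρ e) = 0 ↔ _
    rw [hδ]
    constructor
    · intro h0
      have h1 : μ e ∈ Ideal.span {f} := Ideal.Quotient.eq_zero_iff_mem.1 h0
      obtain ⟨c, hc⟩ := Ideal.mem_span_singleton'.1 h1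
      refine ⟨⟨(e : E) - ι c, ?_⟩, Subtype.ext ?_⟩
      · rw [Submodule.mem_torsionBy_iff, smul_sub, ← hμ, ← map_smul, smul_eq_mul, mul_comm, hc, sub_self]
      · show π ((e : E) - ι c) = π e
        rw [map_sub, show π (ι c) = 0 from (Submodule.Quotient.mk_eq_zero _).2 ⟨_, rfl⟩, sub_zero]
    · rintro ⟨e', he'⟩
      obtain ⟨x, hx⟩ := (Submodule.Quotient.eq _).1 (congrArg Subtype.val he').symm
      have h1 : μ e = f * x := hι (by
        rw [hμ, ← smul_eq_mul, map_smul, hx, smul_sub, show f • ((tors f E).subtype e') = 0 from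
          (Submodule.mem_torsionBy_iff f _).1 e'.2, sub_zero]
        rfl)
      show Ideal.Quotient.mk (Ideal.span {f}) (μ e) = 0
      rw [Ideal.Quotient.eq_zero_iff_mem, h1]
      exact Ideal.mul_mem_right _ _ (Ideal.mem_span_singleton_self f)

variable [IsNoetherianRing R] [IsLocalRing R]

/-- `Ext^i(κ, R) → Ext^i(κ, R/f)` is injective. -/
theorem extVan_residue_of_quot (hf : IsSMulRegular R f) (hfm : f ∈ maximalIdeal R) {i : ℕ}
    (h : ExtVan R (ResidueField R) (R ⧸ Ideal.span {f}) i) : ExtVan R (ResidueField R) R i := by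
  refine ⟨fun a b => ?_⟩
  suffices ∀ c : Abelian.Ext (ModuleCat.of R (ResidueField R)) (ModuleCat.of R R) i, c = 0 by rw [this a, this b]
  intro c
  let μ : R →ₗ[R] R := f • LinearMap.id
  have hex : Function.Exact μ (Submodule.mkQ (Ideal.span {f})) := fun r => by
    rw [Submodule.mkQ_apply, Submodule.Quotient.mk_eq_zero, Ideal.mem_span_singleton']
    exact ⟨fun ⟨c, hc⟩ => ⟨c, (mul_comm f c).trans hc⟩, fun ⟨c, hc⟩ => ⟨c, (mul_comm c f).trans hc⟩⟩
  have hS := exists_ses μ (Submodule.mkQ (Ideal.span {f})) hf (Submodule.mkQ_surjective _) hex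
  obtain ⟨y, hy⟩ := Abelian.Ext.covariant_sequence_exact₂ (ModuleCat.of R (ResidueField R)) hS c
    (@Subsingleton.elim _ h _ _)
  have h1 : ModuleCat.ofHom μ = f • 𝟙 (ModuleCat.of R R) := ModuleCat.hom_ext (by ext; rfl)
  have h2 : f • 𝟙 (ModuleCat.of R (ResidueField R)) = 0 := ModuleCat.hom_ext (LinearMap.ext fun x => by
    obtain ⟨x, rfl⟩ := residue_surjective x
    show f • residue R x = 0
    rw [← algebraMap_smul (ResidueField R) f, ResidueField.algebraMap_eq, (residue_eq_zero_iff f).2 hfm, zero_smul])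
  have h4 : ∀ w : Abelian.Ext (ModuleCat.of R (ResidueField R)) (ModuleCat.of R R) i,
      w.comp (Abelian.Ext.mk₀ (ModuleCat.ofHom μ)) (add_zero i) = 0 := fun w => by
    rw [h1, Abelian.Ext.mk₀_smul, Abelian.Ext.comp_smul, Abelian.Ext.comp_mk₀_id,
      show f • w = (Abelian.Ext.mk₀ (f • 𝟙 (ModuleCat.of R (ResidueField R)))).comp w (zero_add i) by
        rw [Abelian.Ext.mk₀_smul, Abelian.Ext.smul_comp, Abelian.Ext.mk₀_id_comp],
      h2, Abelian.Ext.mk₀_zero, Abelian.Ext.zero_comp]
  exact hy.symm.trans (h4 y)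

/-- If `R/f` has finite injective dimension, so does `R`, one higher. -/
theorem idlt_of_quot (hf : IsSMulRegular R f) (hfm : f ∈ maximalIdeal R) {n : ℕ} (h : IDLT (R ⧸ Ideal.span {f}) (R ⧸ Ideal.span {f}) (n + 1)) :
    IDLT R R (n + 2) :=
  hasInjectiveDimensionLT_of_residueField fun i hi => extVan_residue_of_quot f hf hfm
    (@HasInjectiveDimensionLT.subsingleton _ _ _ _ _ (n + 2) (idlt_of_idlt_quot f hf n (R ⧸ Ideal.span {f}) h) i hi _)

end GorLib
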