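import Groth.Agent.GorLib.LCI
import Mathlib.FieldTheory.IntermediateField.Adjoin.Basic
import Mathlib.RingTheory.PolynomialAlgebra
import Mathlib.RingTheory.TensorProduct.Free

/-! # Gorenstein rings and finitely generated field extensions -/

set_option autoImplicit false

universe u

open TensorProduct Polynomial

namespace GorLib

theorem gorensteinRing_localization {P T : Type u} [CommRing P] [CommRing T] [Algebra P T] (M : Submonoid P)
    [IsLocalization M T] (hP : LocCoh.IsGorensteinRing P) : LocCoh.IsGorensteinRing T := by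
  haveI := hP
  haveI : IsNoetherianRing T := IsLocalization.isNoetherianRing M T inferInstance
  refine { isGorensteinLocalRing_localization := fun q _ => ?_ }
  haveI : IsLocalization.AtPrime (Localization.AtPrime q) (q.comap (algebraMap P T)) :=
    IsLocalization.isLocalization_isLocalization_atPrime_isLocalization M _ q
  exact gorenstein_of_ringEquiv (IsLocalization.algEquiv (q.comap (algebraMap P T)).primeCompl
    (Localization.AtPrime q) (Localization.AtPrime (q.comap (algebraMap P T)))).toRingEquiv
    (hP.isGorensteinLocalRing_localization _)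

/-- The quotient of a Gorenstein ring by a regular element is Gorenstein. -/
theorem gorensteinRing_of_surjective_span_singleton {P B : Type u} [CommRing P] [CommRing B]
    (hP : LocCoh.IsGorensteinRing P) (σ : P →+* B) (hσ : Function.Surjective σ) {p : P}
    (hker : RingHom.ker σ = Ideal.span {p}) (hp : ∀ x, p * x = 0 → x = 0) : LocCoh.IsGorensteinRing B := by
  refine gorensteinRing_quotient_locKR hP σ hσ (KRLib.KRGen.locKR ?_)
  refine ⟨1, fun _ => p, KRLib.isExactK_single p hp, ?_⟩
  rw [hker, Set.range_const]

section Simple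

variable (k L : Type u) [Field k] [Field L] [Algebra k L] (x : L)
  (R : Type u) [CommRing R] [Algebra k R]

theorem gorensteinRing_tensor_simple (hx : IntermediateField.adjoin k {x} = ⊤) (hR : LocCoh.IsGorensteinRing R) :
    LocCoh.IsGorensteinRing (R ⊗[k] L) := by
  have hP : LocCoh.IsGorensteinRing (R ⊗[k] k[X]) :=
    gorensteinRing_of_ringEquiv (polyEquivTensor k R).symm.toRingEquiv (gorensteinRing_polynomial hR)
  let ψ : R ⊗[k] k[X] →ₐ[k] R ⊗[k] L := Algebra.TensorProduct.map (AlgHom.id k R) (aeval x)
  by_cases halg : IsIntegral k x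
  · have hsurj0 : Function.Surjective (aeval x : k[X] →ₐ[k] L) := by
      intro z
      have hz : z ∈ (IntermediateField.adjoin k {x}).toSubalgebra := by rw [hx]; exact IntermediateField.mem_top
      rw [IntermediateField.adjoin_simple_toSubalgebra_of_isAlgebraic halg.isAlgebraic,
        Algebra.adjoin_singleton_eq_range_aeval] at hz
      exact hz
    refine gorensteinRing_of_surjective_span_singleton hP ψ.toRingHom
      (show Function.Surjective (TensorProduct.map (LinearMap.id : R →ₗ[k] R) (aeval x : k[X] →ₐ[k] L).toLinearMap) from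
        TensorProduct.map_surjective Function.surjective_id hsurj0)
      (p := 1 ⊗ₜ[k] minpoly k x) ?_ ?_
    · show RingHom.ker ψ = _
      rw [Algebra.TensorProduct.lTensor_ker _ hsurj0, minpoly.ker_aeval_eq_span_minpoly, Ideal.map_span,
        Set.image_singleton]
      rfl
    · intro y hy
      refine (polyEquivTensor k R).symm.injective ?_
      rw [map_zero]
      have h1 := congrArg (polyEquivTensor k R).symm hy
      rw [map_mul, map_zero, polyEquivTensor_symm_apply_tmul_eq_smul, one_smul] at h1
      exact ((minpoly.monic halg).map (algebraMap k R)).isRegular.left (h1.trans (mul_zero _).symm)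
  · have htr : Function.Injective (aeval x : k[X] →ₐ[k] L) := by
      rw [injective_iff_map_eq_zero]
      intro p hp
      by_contra hp0
      exact halg (IsAlgebraic.isIntegral ⟨p, hp0, hp⟩)
    letI : Algebra (R ⊗[k] k[X]) (R ⊗[k] L) := ψ.toRingHom.toAlgebra
    let M : Submonoid (R ⊗[k] k[X]) :=
      (nonZeroDivisors k[X]).map (Algebra.TensorProduct.includeRight : k[X] →ₐ[k] R ⊗[k] k[X]).toRingHom.toMonoidHom
    have hψ1 : ∀ p : k[X], ψ (1 ⊗ₜ[k] p) = 1 ⊗ₜ[k] aeval x p := fun p => by
      simp [ψ]
    have hψinj : Function.Injective ψ :=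
      Module.Flat.lTensor_preserves_injective_linearMap (aeval x : k[X] →ₐ[k] L).toLinearMap htr
    have hsurj : ∀ z : R ⊗[k] L, ∃ a : R ⊗[k] k[X], ∃ s ∈ nonZeroDivisors k[X],
        z * ψ (1 ⊗ₜ[k] s) = ψ a := by
      intro z
      induction z using TensorProduct.induction_on with
      | zero => exact ⟨0, 1, one_mem _, by simp⟩
      | tmul r l =>
        obtain ⟨p, s, hps⟩ := IntermediateField.mem_adjoin_simple_iff k l |>.1
          (show l ∈ IntermediateField.adjoin k {x} from hx ▸ IntermediateField.mem_top)
        by_cases hs : aeval x s = 0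
        · refine ⟨0, 1, one_mem _, ?_⟩
          rw [hps, hs, div_zero]
          simp
        · refine ⟨r ⊗ₜ[k] p, s, mem_nonZeroDivisors_of_ne_zero (fun h => hs (by rw [h, map_zero])), ?_⟩
          rw [hψ1, Algebra.TensorProduct.tmul_mul_tmul, mul_one, hps, div_mul_cancel₀ _ hs]
          simp [ψ]
      | add z w hz hw =>
        obtain ⟨a, s, hs, ha⟩ := hz
        obtain ⟨b, t, ht, hb⟩ := hw
        refine ⟨a * (1 ⊗ₜ[k] t) + b * (1 ⊗ₜ[k] s), s * t, mul_mem hs ht, ?_⟩
        have hst : (1 : R) ⊗ₜ[k] (s * t) = (1 ⊗ₜ[k] s) * (1 ⊗ₜ[k] t) := by simp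
        rw [hst, map_mul, map_add, map_mul, map_mul, ← ha, ← hb]
        ring
    haveI : IsLocalization M (R ⊗[k] L) := by
      refine ⟨?_, fun z => ?_, ?_⟩
      · rintro ⟨_, s, hs, rfl⟩
        show IsUnit (ψ (1 ⊗ₜ[k] s))
        rw [hψ1]
        exact (IsUnit.mk0 _ fun h => nonZeroDivisors.ne_zero hs (htr (h.trans (map_zero _).symm))).map
          (Algebra.TensorProduct.includeRight : L →ₐ[k] R ⊗[k] L)
      · obtain ⟨a, s, hs, ha⟩ := hsurj z
        exact ⟨⟨a, ⟨_, s, hs, rfl⟩⟩, ha⟩
      · intro a b h
        exact ⟨1, by rw [hψinj h]⟩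
    exact gorensteinRing_localization M hP

end Simple

/-- Gorenstein is stable under finitely generated field extensions. -/
theorem gorensteinRing_tensor_field {k L : Type u} [Field k] [Field L] [Algebra k L]
    (hfg : ∃ s : Finset L, IntermediateField.adjoin k (s : Set L) = ⊤) {R : Type u} [CommRing R] [Algebra k R]
    (hR : LocCoh.IsGorensteinRing R) : LocCoh.IsGorensteinRing (R ⊗[k] L) := by
  obtain ⟨s, hs⟩ := hfg
  suffices h : LocCoh.IsGorensteinRing (R ⊗[k] (IntermediateField.adjoin k (s : Set L) : IntermediateField k L)) by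
    exact gorensteinRing_of_ringEquiv (Algebra.TensorProduct.congr (AlgEquiv.refl : R ≃ₐ[k] R)
      ((IntermediateField.equivOfEq hs).trans IntermediateField.topEquiv)).symm.toRingEquiv h
  refine IntermediateField.induction_on_adjoin_finset s
    (fun K => LocCoh.IsGorensteinRing (R ⊗[k] (K : IntermediateField k L))) ?_ fun K x _ hK => ?_
  · exact gorensteinRing_of_ringEquiv ((Algebra.TensorProduct.congr (AlgEquiv.refl : R ≃ₐ[k] R)
      (IntermediateField.botEquiv k L)).toRingEquiv.trans (Algebra.TensorProduct.rid k k R).toRingEquiv) hR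
  · let L1 := IntermediateField.adjoin K {x}
    let x' : L1 := ⟨x, IntermediateField.mem_adjoin_simple_self K x⟩
    have hx' : IntermediateField.adjoin K {x'} = (⊤ : IntermediateField K L1) := by
      refine IntermediateField.map_injective L1.val ?_
      rw [IntermediateField.adjoin_map, ← AlgHom.fieldRange_eq_map, IntermediateField.fieldRange_val, Set.image_singleton]
      rfl
    have hG := gorensteinRing_tensor_simple K L1 x' (K ⊗[k] R) hx'
      (gorensteinRing_of_ringEquiv (Algebra.TensorProduct.comm k K R).toRingEquiv hK)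
    show LocCoh.IsGorensteinRing (R ⊗[k] L1)
    exact gorensteinRing_of_ringEquiv ((Algebra.TensorProduct.comm k R ↥L1).toRingEquiv.trans
      ((Algebra.TensorProduct.cancelBaseChange k K K L1 R).symm.toRingEquiv.trans
        (Algebra.TensorProduct.comm K L1 (K ⊗[k] R)).toRingEquiv)) hG

end GorLib
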