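import Groth.Agent.ProjLib.Auslander
import Mathlib.Algebra.Category.ModuleCat.Ext.Finite
import Mathlib.Algebra.Homology.DerivedCategory.Ext.Linear
import Mathlib.RingTheory.Ideal.AssociatedPrime.Finiteness
import Mathlib.RingTheory.Ideal.Quotient.Operations
import Mathlib.RingTheory.Finiteness.Nakayama
import Mathlib.RingTheory.LocalRing.ResidueField.Basic

/-! # Vanishing of `Ext` is detected by the residue field -/

set_option autoImplicit false

universe u

open CategoryTheory IsLocalRing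

namespace GorLib

variable {R : Type u} [CommRing R]

/-- The short complex of two linear maps forming a short exact sequence. -/
theorem exists_ses {M₁ M₂ M₃ : Type u} [AddCommGroup M₁] [Module R M₁] [AddCommGroup M₂] [Module R M₂]
    [AddCommGroup M₃] [Module R M₃] (f : M₁ →ₗ[R] M₂) (g : M₂ →ₗ[R] M₃) (hf : Function.Injective f)
    (hg : Function.Surjective g) (h : Function.Exact f g) :
    (ShortComplex.mk (ModuleCat.ofHom f) (ModuleCat.ofHom g)
      (ModuleCat.hom_ext h.linearMap_comp_eq_zero)).ShortExact where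
  exact := (ShortComplex.ShortExact.moduleCat_exact_iff_function_exact _).2 h
  mono_f := (ModuleCat.mono_iff_injective _).2 hf
  epi_g := (ModuleCat.epi_iff_surjective _).2 hg

variable (R) in
/-- `Ext^i(X, M) = 0`. -/
abbrev ExtVan (X M : Type u) [AddCommGroup X] [Module R X] [AddCommGroup M] [Module R M] (i : ℕ) : Prop :=
  Subsingleton (Abelian.Ext (ModuleCat.of R X) (ModuleCat.of R M) i)

variable {X Y Z M N : Type u} [AddCommGroup X] [Module R X] [AddCommGroup Y] [Module R Y] [AddCommGroup Z]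
  [Module R Z] [AddCommGroup M] [Module R M] [AddCommGroup N] [Module R N] {i : ℕ}

theorem ExtVan.congr_left (e : X ≃ₗ[R] Y) (h : ExtVan R X M i) : ExtVan R Y M i := by
  refine ⟨fun a b => ?_⟩
  have key : ∀ c : Abelian.Ext (ModuleCat.of R Y) (ModuleCat.of R M) i, c = (Abelian.Ext.mk₀ e.toModuleIso.inv).comp
      ((Abelian.Ext.mk₀ e.toModuleIso.hom).comp c (zero_add i)) (zero_add i) := fun c => by
    rw [Abelian.Ext.mk₀_comp_mk₀_assoc, Iso.inv_hom_id, Abelian.Ext.mk₀_id_comp]
  rw [key a, key b, @Subsingleton.elim _ h ((Abelian.Ext.mk₀ e.toModuleIso.hom).comp a (zero_add i))]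

theorem ExtVan.congr_right (e : M ≃ₗ[R] N) (h : ExtVan R X M i) : ExtVan R X N i := by
  refine ⟨fun a b => ?_⟩
  have key : ∀ c : Abelian.Ext (ModuleCat.of R X) (ModuleCat.of R N) i, c = (c.comp (Abelian.Ext.mk₀ e.toModuleIso.inv) (add_zero i)).comp
      (Abelian.Ext.mk₀ e.toModuleIso.hom) (add_zero i) := fun c => by
    rw [Abelian.Ext.comp_assoc_of_second_deg_zero, Abelian.Ext.mk₀_comp_mk₀, Iso.inv_hom_id,
      Abelian.Ext.comp_mk₀_id]
  rw [key a, key b, @Subsingleton.elim _ h (a.comp (Abelian.Ext.mk₀ e.toModuleIso.inv) (add_zero i))]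

theorem extVan_of_subsingleton_left [Subsingleton X] : ExtVan R X M i := by
  refine ⟨fun a b => ?_⟩
  have h : 𝟙 (ModuleCat.of R X) = 0 := ModuleCat.hom_ext (LinearMap.ext fun x => Subsingleton.elim _ _)
  rw [← Abelian.Ext.mk₀_id_comp a, ← Abelian.Ext.mk₀_id_comp b, h, Abelian.Ext.mk₀_zero,
    Abelian.Ext.zero_comp, Abelian.Ext.zero_comp]

theorem extVan_mid (f : X →ₗ[R] Y) (g : Y →ₗ[R] Z) (hf : Function.Injective f) (hg : Function.Surjective g)
    (hfg : Function.Exact f g) (hX : ExtVan R X M i) (hZ : ExtVan R Z M i) : ExtVan R Y M i := by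
  refine ⟨fun a b => ?_⟩
  suffices ∀ c : Abelian.Ext (ModuleCat.of R Y) (ModuleCat.of R M) i, c = 0 by rw [this a, this b]
  intro c
  obtain ⟨z, hz⟩ := Abelian.Ext.contravariant_sequence_exact₂ (exists_ses f g hf hg hfg) _ c
    (@Subsingleton.elim _ hX _ _)
  rw [← hz, @Subsingleton.elim _ hZ z 0, Abelian.Ext.comp_zero]

theorem extVan_left (f : X →ₗ[R] Y) (g : Y →ₗ[R] Z) (hf : Function.Injective f) (hg : Function.Surjective g)
    (hfg : Function.Exact f g) (hY : ExtVan R Y M i) (hZ : ExtVan R Z M (i + 1)) : ExtVan R X M i := by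
  refine ⟨fun a b => ?_⟩
  suffices ∀ c : Abelian.Ext (ModuleCat.of R X) (ModuleCat.of R M) i, c = 0 by rw [this a, this b]
  intro c
  obtain ⟨y, hy⟩ := Abelian.Ext.contravariant_sequence_exact₁ (exists_ses f g hf hg hfg) _ c
    (n₁ := i + 1) (add_comm 1 i) (@Subsingleton.elim _ hZ _ _)
  rw [← hy, @Subsingleton.elim _ hY y 0, Abelian.Ext.comp_zero]

variable [IsNoetherianRing R] [IsLocalRing R]

/-- If `A/p →ˣ A/p` has cokernel without `Ext^{i+1}`, then `Ext^i(A/p, M) = 0`. -/
theorem extVan_prime_of_cokernel [Module.Finite R M] (p : Ideal R) [p.IsPrime] (x : R) (hx : x ∈ maximalIdeal R)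
    (hxp : x ∉ p) (h : ExtVan R (R ⧸ (p ⊔ Ideal.span {x})) M (i + 1)) : ExtVan R (R ⧸ p) M i := by
  let μ : (R ⧸ p) →ₗ[R] (R ⧸ p) := x • LinearMap.id
  have hμ : Function.Injective μ := by
    rw [injective_iff_map_eq_zero]
    intro a ha
    obtain ⟨a, rfl⟩ := Ideal.Quotient.mk_surjective a
    have : Ideal.Quotient.mk p (x * a) = 0 := ha
    rw [Ideal.Quotient.eq_zero_iff_mem] at this ⊢
    exact (Ideal.IsPrime.mem_or_mem ‹_› this).resolve_left hxp
  let π : (R ⧸ p) →ₗ[R] (R ⧸ (p ⊔ Ideal.span {x})) := Submodule.factor le_sup_left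
  have hπ : Function.Surjective π := Submodule.factor_surjective _
  have hex : Function.Exact μ π := fun a => by
    obtain ⟨a, rfl⟩ := Ideal.Quotient.mk_surjective a
    show Ideal.Quotient.mk (p ⊔ Ideal.span {x}) a = 0 ↔ _
    rw [Ideal.Quotient.eq_zero_iff_mem, Submodule.mem_sup]
    constructor
    · rintro ⟨q, hq, s, hs, rfl⟩
      obtain ⟨c, rfl⟩ := Ideal.mem_span_singleton'.1 hs
      refine ⟨Ideal.Quotient.mk p c, ?_⟩
      show Ideal.Quotient.mk p (x * c) = _
      rw [Ideal.Quotient.eq, show x * c - (q + c * x) = -q by ring]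
      exact p.neg_mem hq
    · rintro ⟨c, hc⟩
      obtain ⟨c, rfl⟩ := Ideal.Quotient.mk_surjective c
      have : Ideal.Quotient.mk p (x * c) = Ideal.Quotient.mk p a := hc
      exact ⟨a - x * c, Ideal.Quotient.eq.1 this.symm, x * c, Ideal.mem_span_singleton'.2 ⟨c, mul_comm _ _⟩,
        sub_add_cancel _ _⟩
  have hS := exists_ses μ π hμ hπ hex
  have hsurj : ∀ c : Abelian.Ext (ModuleCat.of R (R ⧸ p)) (ModuleCat.of R M) i, ∃ y, c = x • y := fun c => by
    obtain ⟨y, hy⟩ := Abelian.Ext.contravariant_sequence_exact₁ hS (ModuleCat.of R M) c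
      (n₁ := i + 1) (add_comm 1 i) (@Subsingleton.elim _ h _ _)
    refine ⟨y, hy.symm.trans ?_⟩
    show (Abelian.Ext.mk₀ (ModuleCat.ofHom (x • LinearMap.id))).comp y (zero_add i) = _
    have e1 : ModuleCat.ofHom (x • LinearMap.id : (R ⧸ p) →ₗ[R] (R ⧸ p)) = x • 𝟙 (ModuleCat.of R (R ⧸ p)) :=
      ModuleCat.hom_ext (by ext; rfl)
    rw [e1, Abelian.Ext.mk₀_smul, Abelian.Ext.smul_comp, Abelian.Ext.mk₀_id_comp]
  haveI : Module.Finite R (ModuleCat.of R (R ⧸ p)) := inferInstanceAs (Module.Finite R (R ⧸ p))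
  haveI : Module.Finite R (ModuleCat.of R M) := ‹Module.Finite R M›
  have htop : (⊤ : Submodule R (Abelian.Ext (ModuleCat.of R (R ⧸ p)) (ModuleCat.of R M) i)) ≤ maximalIdeal R • ⊤ :=
    fun c _ => by
    obtain ⟨y, rfl⟩ := hsurj c
    exact Submodule.smul_mem_smul hx Submodule.mem_top
  have := Submodule.eq_bot_of_le_smul_of_le_jacobson_bot (maximalIdeal R) ⊤ Module.Finite.fg_top htop
    (maximalIdeal_le_jacobson ⊥)
  refine ⟨fun a b => ?_⟩
  have ha : a ∈ (⊤ : Submodule R _) := Submodule.mem_top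
  have hb : b ∈ (⊤ : Submodule R _) := Submodule.mem_top
  rw [this, Submodule.mem_bot] at ha hb
  rw [ha, hb]

/-- Vanishing at the residue field in all degrees `≥ K` gives it for all finite modules. -/
theorem extVan_of_residueField [Module.Finite R M] {K : ℕ} (h : ∀ i, K ≤ i → ExtVan R (ResidueField R) M i)
    (X : Type u) [AddCommGroup X] [Module R X] [Module.Finite R X] (i : ℕ) (hi : K ≤ i) : ExtVan R X M i := by
  have key : ∀ J : Ideal R, ∀ (X : Type u) [AddCommGroup X] [Module R X] [Module.Finite R X],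
      J ≤ Module.annihilator R X → ∀ i, K ≤ i → ExtVan R X M i := by
    intro J
    induction J using IsNoetherian.induction with
    | hgt J ih =>
      intro X _ _ _
      refine IsNoetherianRing.induction_on_isQuotientEquivQuotientPrime R (M := X) inferInstance
        (motive := fun N _ _ _ => J ≤ Module.annihilator R N → ∀ i, K ≤ i → ExtVan R N M i) ?_ ?_ ?_
      · intro N _ _ _ _ _ i _
        exact extVan_of_subsingleton_left
      · intro N _ _ _ p e hJ i hi
        rw [e.annihilator_eq, Ideal.annihilator_quotient] at hJ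
        refine ExtVan.congr_left e.symm ?_
        rcases eq_or_ne p.1 (maximalIdeal R) with hp | hp
        · rw [hp]; exact h i hi
        · obtain ⟨x, hx, hxp⟩ := SetLike.exists_of_lt (lt_of_le_of_ne (le_maximalIdeal p.2.ne_top) hp)
          haveI := p.2
          refine extVan_prime_of_cokernel p.1 x hx hxp (ih (p.1 ⊔ Ideal.span {x}) ?_ (R ⧸ (p.1 ⊔ Ideal.span {x})) ?_ (i + 1) (by omega))
          · exact lt_of_le_of_lt hJ (left_lt_sup.2 fun hle =>
              hxp (hle (Ideal.mem_span_singleton_self x)))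
          · rw [Ideal.annihilator_quotient]
      · intro N₁ _ _ _ N₂ _ _ _ N₃ _ _ _ f g hf hg hfg h₁ h₃ hJ i hi
        exact extVan_mid f g hf hg hfg (h₁ (hJ.trans (f.annihilator_le_of_injective hf)) i hi)
          (h₃ (hJ.trans (g.annihilator_le_of_surjective hg)) i hi)
  exact key ⊥ X bot_le i hi

theorem hasInjectiveDimensionLT_of_residueField [Module.Finite R M] {K : ℕ}
    (h : ∀ i, K + 1 ≤ i → ExtVan R (ResidueField R) M i) :
    HasInjectiveDimensionLT (ModuleCat.of R M) (K + 1) :=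
  ProjLib.hasInjectiveDimensionLT_of_cyclic K _ fun I => extVan_of_residueField h (R ⧸ I) (K + 1) le_rfl

end GorLib
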